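import Groth.Agent.ZH85.PtLow.Scheme
import Mathlib.FieldTheory.Finite.Extension
import Mathlib.Algebra.Field.ULift

/-! The abscissa of convergence over a finite field. -/

noncomputable section

set_option linter.unusedSectionVars false
set_option linter.style.haveILetI false

universe u

open CategoryTheory AlgebraicGeometry Groth.Agent.ZetaLib Filter Topology

namespace Groth.Agent.ZH85.PtLow

theorem exists_extension (k : Type u) [Field k] [Finite k] (n : ℕ) (hn : 0 < n) :
    ∃ (F : Type u) (_ : Field F) (_ : Algebra k F), Finite F ∧ Module.finrank k F = n := by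
  obtain ⟨p, hp⟩ := CharP.exists k
  have : Fact p.Prime := ⟨CharP.char_is_prime k p⟩
  have : NeZero n := ⟨hn.ne'⟩
  refine ⟨ULift.{u} (FiniteField.Extension k p n), inferInstance, inferInstance, inferInstance, ?_⟩
  rw [ULift.moduleEquiv.finrank_eq, FiniteField.finrank_extension]

theorem card_algHom_ker_le {k A F : Type u} [Field k] [Finite k] [CommRing A] [Algebra k A] [Field F]
    [Algebra k F] [Finite F] (M : MaximalSpectrum A) :
    Nat.card {φ : A →ₐ[k] F // RingHom.ker φ.toRingHom = M.asIdeal} ≤ Module.finrank k F := by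
  rcases isEmpty_or_nonempty {φ : A →ₐ[k] F // RingHom.ker φ.toRingHom = M.asIdeal} with h | ⟨⟨φ₀, h₀⟩⟩
  · rw [Nat.card_of_isEmpty]; exact Nat.zero_le _
  haveI := M.isMaximal
  letI : Field (A ⧸ M.asIdeal) := Ideal.Quotient.field _
  let lift : {φ : A →ₐ[k] F // RingHom.ker φ.toRingHom = M.asIdeal} → ((A ⧸ M.asIdeal) →ₐ[k] F) :=
    fun φ => Ideal.Quotient.liftₐ M.asIdeal φ.1 fun a ha => by
      rw [← φ.2] at ha
      exact ha
  let ι := lift ⟨φ₀, h₀⟩
  haveI : Finite (A ⧸ M.asIdeal) := Finite.of_injective ι ι.toRingHom.injective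
  have hinj : Function.Injective lift := fun φ ψ h => Subtype.ext (AlgHom.ext fun a => by
    have := AlgHom.congr_fun h (Ideal.Quotient.mk _ a)
    simpa [lift] using this)
  haveI : Finite ((A ⧸ M.asIdeal) →ₐ[k] F) := Finite.of_injective _ DFunLike.coe_injective
  refine (Nat.card_le_card_of_injective lift hinj).trans ?_
  rw [FiniteField.natCard_algHom_of_finrank_dvd (FiniteField.nonempty_algHom_iff_finrank_dvd.mp ⟨ι⟩)]
  haveI : Module.Finite k F := Module.Finite.of_finite
  exact LinearMap.finrank_le_finrank_of_injective (f := ι.toLinearMap) ι.toRingHom.injective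

/-- Below the dimension the sum over maximal ideals diverges. -/
theorem not_summable_algebra (k : Type u) [Field k] [Finite k] (A : Type u) [CommRing A] [IsDomain A]
    [Algebra k A] [Algebra.FiniteType k A] (r : ℕ) (hdim : ringKrullDim A = r) {σ : ℝ} (hσ0 : 0 ≤ σ)
    (hσ : σ < r) : ¬ Summable fun M : MaximalSpectrum A => (Nat.card (A ⧸ M.asIdeal) : ℝ) ^ (-σ) := by
  classical
  intro hsum
  obtain ⟨m, c, hm, hlow⟩ := exists_points_lower k A r hdim
  set T := ∑' M : MaximalSpectrum A, (Nat.card (A ⧸ M.asIdeal) : ℝ) ^ (-σ)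
  have hqne : 1 < Nat.card k := Finite.one_lt_card
  have hq : (1 : ℝ) < Nat.card k := by exact_mod_cast hqne
  -- degrees
  have hN : ∀ n, 0 < n → m ∣ n → (2 * (c : ℝ)) ^ 2 ≤ (Nat.card k : ℝ) ^ n →
      (Nat.card k : ℝ) ^ ((n : ℝ) * ((r : ℝ) - σ)) / 2 ≤ n * T := by
    intro n hn hdvd hbig
    obtain ⟨F, iF, iA, hF, hrank⟩ := exists_extension k n hn
    letI := iF
    letI := iA
    haveI := hF
    have hcardF : Nat.card F = Nat.card k ^ n := by
      haveI : Module.Finite k F := Module.Finite.of_finite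
      rw [Module.natCard_eq_pow_finrank (K := k), hrank]
    haveI : Finite (A →ₐ[k] F) := by
      obtain ⟨gens, hgens⟩ := Algebra.FiniteType.out (R := k) (A := A)
      exact Finite.of_injective (fun ψ (s : gens) => ψ s) fun ψ χ h =>
        AlgHom.ext_of_adjoin_eq_top hgens fun s hs => congrFun h ⟨s, hs⟩
    have h1 := hlow F (hrank ▸ hdvd)
    obtain ⟨S, hS, -, h2⟩ := sum_ge_of_homs (R := k) (A := A) F n
      (fun M => (card_algHom_ker_le M).trans_eq hrank) hσ0
    have h3 : ∑ M ∈ S, (Nat.card (A ⧸ M.asIdeal) : ℝ) ^ (-σ) ≤ T :=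
      hsum.sum_le_tsum S fun x _ => Real.rpow_nonneg (Nat.cast_nonneg _) _
    have hQ : (Nat.card F : ℝ) = (Nat.card k : ℝ) ^ n := by rw [hcardF]; push_cast; rfl
    have hQpos : (0 : ℝ) < Nat.card F := by exact_mod_cast Nat.card_pos
    have hc : (c : ℝ) / Real.sqrt (Nat.card F) ≤ 1 / 2 := by
      rw [div_le_iff₀ (Real.sqrt_pos.mpr hQpos)]
      have : 2 * (c : ℝ) ≤ Real.sqrt (Nat.card F) := Real.le_sqrt_of_sq_le (by rw [hQ]; exact hbig)
      linarith
    calc (Nat.card k : ℝ) ^ ((n : ℝ) * ((r : ℝ) - σ)) / 2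
        = (Nat.card F : ℝ) ^ r * (1 / 2) * (Nat.card F : ℝ) ^ (-σ) := by
          rw [Real.rpow_mul (by linarith), Real.rpow_natCast, ← hQ, sub_eq_add_neg,
            Real.rpow_add hQpos, Real.rpow_natCast]
          ring
      _ ≤ (Nat.card (A →ₐ[k] F) : ℝ) * (Nat.card F : ℝ) ^ (-σ) :=
          mul_le_mul_of_nonneg_right
            ((mul_le_mul_of_nonneg_left (by linarith) (pow_nonneg hQpos.le _)).trans h1)
            (Real.rpow_nonneg hQpos.le _)
      _ ≤ _ := h2.trans (mul_le_mul_of_nonneg_left h3 (Nat.cast_nonneg _))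
  -- growth
  have ha : 1 < (Nat.card k : ℝ) ^ ((r : ℝ) - σ) := Real.one_lt_rpow hq (by linarith)
  have hlim := tendsto_pow_const_div_const_pow_of_one_lt 1 ha
  have hev : ∀ᶠ n : ℕ in atTop, (2 * (|T| + 1)) * ((n : ℝ) ^ 1 / ((Nat.card k : ℝ) ^ ((r : ℝ) - σ)) ^ n) < 1 :=
    ((hlim.const_mul (2 * (|T| + 1))).eventually_lt_const (by simp))
  have hev2 : ∀ᶠ n : ℕ in atTop, (2 * (c : ℝ)) ^ 2 ≤ (Nat.card k : ℝ) ^ n :=
    (tendsto_pow_atTop_atTop_of_one_lt hq).eventually_ge_atTop _
  obtain ⟨n₀, hn₀⟩ := eventually_atTop.mp (hev.and hev2)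
  obtain ⟨h4, h5⟩ := hn₀ (m * (n₀ + 1)) (by nlinarith)
  have h6 := hN (m * (n₀ + 1)) (by positivity) (dvd_mul_right _ _) h5
  rw [mul_comm ((m * (n₀ + 1) : ℕ) : ℝ) ((r : ℝ) - σ), Real.rpow_mul_natCast (by linarith)] at h6
  have hpos : (0 : ℝ) < ((Nat.card k : ℝ) ^ ((r : ℝ) - σ)) ^ (m * (n₀ + 1)) := by positivity
  rw [pow_one, ← mul_div_assoc, div_lt_one hpos] at h4
  nlinarith [le_abs_self T, Nat.cast_nonneg (α := ℝ) (m * (n₀ + 1))]

/-- The series of a scheme over closed points diverges below the dimension. -/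
theorem not_summable_finiteField (k : Type u) [Field k] [Finite k] {X : Scheme.{u}}
    (f : X ⟶ Spec (CommRingCat.of k)) [LocallyOfFiniteType f] [QuasiCompact f] (r : ℕ)
    (hr : topologicalKrullDim X = r) {σ : ℝ} (hσ0 : 0 ≤ σ) (hσ : σ < r) :
    ¬ Summable fun x : ClosedPt X => (ptNorm x : ℝ) ^ (-σ) := by
  intro hsum
  obtain ⟨U, hU, P, hP, hdim⟩ := exists_affine_prime (X := X) r hr
  obtain ⟨ialg, hft⟩ := VarDim.exists_algebra f hU
  letI := ialg
  haveI := hft
  haveI := hP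
  haveI : Algebra.FiniteType k (Γ(X, U) ⧸ P) :=
    Algebra.FiniteType.of_surjective (Ideal.Quotient.mkₐ k P) (Ideal.Quotient.mkₐ_surjective k P)
  let φ : ULift.{u} ℤ →+* k := (Int.castRingHom k).comp (ULift.ringEquiv (R := ℤ)).toRingHom
  let f' : X ⟶ Spec (CommRingCat.of (ULift.{u} ℤ)) := f ≫ Spec.map (CommRingCat.ofHom φ)
  haveI : LocallyOfFiniteType (Spec.map (CommRingCat.ofHom φ)) := by
    rw [HasRingHomProperty.Spec_iff (P := @LocallyOfFiniteType)]
    exact finiteType_of_finite φ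
  haveI : LocallyOfFiniteType f' := by unfold f'; infer_instance
  obtain ⟨e, he, hnorm⟩ := exists_closedPt_map f' hU P
  refine not_summable_algebra k (Γ(X, U) ⧸ P) r hdim hσ0 hσ ((hsum.comp_injective he).congr fun M => ?_)
  rw [Function.comp_apply, hnorm]

/-- The Dirichlet series diverges at negative real points. -/
theorem not_lseries_summable_of_neg {X : Scheme.{u}} (f : X ⟶ Spec (CommRingCat.of (ULift.{u} ℤ)))
    [LocallyOfFiniteType f] [QuasiCompact f] (r : ℕ) (hr : topologicalKrullDim X = r) {σ : ℝ} (hσ : σ ≤ 0) :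
    ¬ LSeriesSummable (Zeta.arithCoeff X) (σ : ℂ) := by
  classical
  intro h
  have h0 : LSeriesSummable (Zeta.arithCoeff X) ((0 : ℝ) : ℂ) := h.of_re_le_re (by simpa using hσ)
  have hn := h0.norm.tendsto_atTop_zero
  obtain ⟨x, hx⟩ : ∃ x : ClosedPt X, True := by
    obtain ⟨U, hU, P, hP, hdim⟩ := exists_affine_prime (X := X) r hr
    haveI : Nontrivial (Γ(X, U) ⧸ P) := Ideal.Quotient.nontrivial_iff.mpr hP.ne_top
    obtain ⟨M, hM⟩ := Ideal.exists_maximal (Γ(X, U) ⧸ P)
    obtain ⟨e, -, -⟩ := exists_closedPt_map f hU P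
    exact ⟨e ⟨M, hM⟩, trivial⟩
  obtain ⟨n₀, hn₀⟩ := eventually_atTop.mp (hn.eventually_lt_const (show (0 : ℝ) < 1 / 2 by norm_num))
  have h2 := two_le_ptNorm f x
  let N := ptNorm x ^ (n₀ + 1)
  have hN : n₀ ≤ N := le_trans (le_of_lt (lt_trans (Nat.lt_succ_self _) Nat.lt_two_pow_self)) (Nat.pow_le_pow_left h2 _)
  have h3 := hn₀ N hN
  rw [LSeries.norm_term_eq, if_neg (by positivity), Complex.ofReal_re, Real.rpow_zero, div_one, Zeta.arithCoeff,
    Complex.norm_natCast, Zeta.cycleNormCount] at h3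
  -- the cycle `(n₀ + 1) x` has norm `N`
  have hsum := summable_ptNorm_of_lseries f r hr.le h0
  have hfinpts : Finite (ClosedPt X) := by
    refine Finite.of_summable_const (b := (1 : ℝ)) one_pos ?_
    simpa using hsum
  have : Finite {β : ClosedPt X →₀ ℕ // mon ptNorm β = N} := by
    haveI := Fintype.ofFinite (ClosedPt X)
    refine Finite.of_injective (fun β (y : ClosedPt X) => (⟨min (β.1 y) N, Nat.lt_succ_of_le (min_le_right _ _)⟩ : Fin (N + 1))) fun β γ hβγ => ?_
    have hb : ∀ (β : {β : ClosedPt X →₀ ℕ // mon ptNorm β = N}) y, β.1 y ≤ N := fun β y => by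
      by_cases hy : y ∈ β.1.support
      · have hdvd : ptNorm y ^ β.1 y ∣ mon ptNorm β.1 := Finset.dvd_prod_of_mem (fun z => ptNorm z ^ β.1 z) hy
        rw [β.2] at hdvd
        exact ((Nat.lt_two_pow_self).le.trans (Nat.pow_le_pow_left (two_le_ptNorm f y) _)).trans
          (Nat.le_of_dvd (pow_pos (by omega) _) hdvd)
      · simp [Finsupp.notMem_support_iff.mp hy]
    refine Subtype.ext (Finsupp.ext fun y => ?_)
    have := congrArg Fin.val (congrFun hβγ y)
    simpa [min_eq_left (hb β y), min_eq_left (hb γ y)] using this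
  rw [Nat.card_congr (cycleEquiv X _)] at h3
  have h4 : 1 ≤ Nat.card {β : ClosedPt X →₀ ℕ // mon ptNorm β = N} :=
    @Nat.card_pos _ ⟨⟨Finsupp.single x (n₀ + 1), by rw [mon_single]⟩⟩ _
  have h5 : (1 : ℝ) ≤ Nat.card {β : ClosedPt X →₀ ℕ // mon ptNorm β = N} := by exact_mod_cast h4
  linarith

theorem abscissa_eq_finiteField {k : Type u} [Field k] [Finite k]
    {Y : Scheme.{u}} (f : Y ⟶ Spec (CommRingCat.of k)) [LocallyOfFiniteType f] [QuasiCompact f] (r : ℕ)
    (hr : topologicalKrullDim Y = r) :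
    LSeries.abscissaOfAbsConv (Zeta.arithCoeff Y) = (r : ℝ) := by
  let φ : ULift.{u} ℤ →+* k := (Int.castRingHom k).comp (ULift.ringEquiv (R := ℤ)).toRingHom
  let f' : Y ⟶ Spec (CommRingCat.of (ULift.{u} ℤ)) := f ≫ Spec.map (CommRingCat.ofHom φ)
  haveI : LocallyOfFiniteType (Spec.map (CommRingCat.ofHom φ)) := by
    rw [HasRingHomProperty.Spec_iff (P := @LocallyOfFiniteType)]
    exact finiteType_of_finite φ
  haveI : LocallyOfFiniteType f' := by unfold f'; infer_instance
  haveI : QuasiCompact f' := by unfold f'; infer_instance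
  refine le_antisymm (abscissa_le f' r hr.le) ?_
  rw [LSeries.abscissaOfAbsConv]
  refine le_sInf ?_
  rintro _ ⟨y, hy, rfl⟩
  rw [EReal.coe_le_coe_iff]
  by_contra hlt
  rcases le_or_gt y 0 with h0 | h0
  · exact not_lseries_summable_of_neg f' r hr h0 hy
  · exact not_summable_finiteField k f r hr h0.le (not_le.mp hlt) (summable_ptNorm_of_lseries f' r hr.le hy)

end Groth.Agent.ZH85.PtLow
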