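import Groth.Agent.ZH85.PtLow.CharZero
import Groth.Agent.ZH85.PtLow.Abscissa

/-! The abscissa of convergence of an arithmetic scheme is its dimension. -/

noncomputable section

set_option linter.unusedSectionVars false
set_option linter.style.haveILetI false

universe u

open CategoryTheory AlgebraicGeometry Groth.Agent.ZetaLib

namespace Groth.Agent.ZH85.PtLow

attribute [-instance] ULift.smulLeft

/-- Below the dimension the sum over maximal ideals diverges. -/
theorem not_summable_int (B : Type u) [CommRing B] [IsDomain B] [Algebra (ULift.{u} ℤ) B]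
    [Algebra.FiniteType (ULift.{u} ℤ) B] (r : ℕ) (hdim : ringKrullDim B = r) {σ : ℝ} (hσ0 : 0 ≤ σ)
    (hσ : σ < r) : ¬ Summable fun M : MaximalSpectrum B => (Nat.card (B ⧸ M.asIdeal) : ℝ) ^ (-σ) := by
  obtain ⟨p, hp⟩ := CharP.exists B
  rcases eq_or_ne p 0 with rfl | hp0
  · haveI : CharZero B := CharP.charP_to_charZero B
    refine not_summable_charZero (fun a b h => ?_) r hdim hσ0 hσ
    have hext := RingHom.ext_int ((algebraMap (ULift.{u} ℤ) B).comp (ULift.ringEquiv (R := ℤ)).symm.toRingHom)
      (Int.castRingHom B)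
    have h' : ∀ c : ULift.{u} ℤ, algebraMap (ULift.{u} ℤ) B c = (c.down : B) := fun c =>
      RingHom.congr_fun hext c.down
    rw [h', h'] at h
    exact ULift.ext _ _ (Int.cast_injective h)
  · have hprime : p.Prime := (CharP.char_is_prime_or_zero B p).resolve_right hp0
    haveI : Fact p.Prime := ⟨hprime⟩
    haveI : Finite (ULift.{u} (ZMod p)) := inferInstance
    letI : Algebra (ULift.{u} (ZMod p)) B :=
      ((ZMod.castHom (dvd_refl p) B).comp (ULift.ringEquiv (R := ZMod p)).toRingHom).toAlgebra
    let ψ : ULift.{u} ℤ →+* ULift.{u} (ZMod p) :=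
      ((ULift.ringEquiv (R := ZMod p)).symm.toRingHom.comp (Int.castRingHom (ZMod p))).comp
        (ULift.ringEquiv (R := ℤ)).toRingHom
    haveI : Algebra.FiniteType (ULift.{u} (ZMod p)) B := by
      rw [← RingHom.finiteType_algebraMap]
      refine RingHom.FiniteType.of_comp_finiteType (f := ψ) ?_
      have : (algebraMap (ULift.{u} (ZMod p)) B).comp ψ = algebraMap (ULift.{u} ℤ) B := by
        have h := RingHom.ext_int (((algebraMap (ULift.{u} (ZMod p)) B).comp ψ).comp
          (ULift.ringEquiv (R := ℤ)).symm.toRingHom)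
          ((algebraMap (ULift.{u} ℤ) B).comp (ULift.ringEquiv (R := ℤ)).symm.toRingHom)
        exact RingHom.ext fun a => RingHom.congr_fun h a.down
      rw [this]
      exact RingHom.finiteType_algebraMap.mpr inferInstance
    exact not_summable_algebra (ULift.{u} (ZMod p)) B r hdim hσ0 hσ

theorem abscissa_eq_int {X : Scheme.{u}}
    (f : X ⟶ Spec (CommRingCat.of (ULift.{u} ℤ))) [LocallyOfFiniteType f] [QuasiCompact f] (r : ℕ)
    (hr : topologicalKrullDim X = r) :
    LSeries.abscissaOfAbsConv (Zeta.arithCoeff X) = (r : ℝ) := by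
  refine le_antisymm (abscissa_le f r hr.le) ?_
  rw [LSeries.abscissaOfAbsConv]
  refine le_sInf ?_
  rintro _ ⟨y, hy, rfl⟩
  rw [EReal.coe_le_coe_iff]
  by_contra hlt
  rcases le_or_gt y 0 with h0 | h0
  · exact not_lseries_summable_of_neg f r hr h0 hy
  obtain ⟨U, hU, P, hP, hdim⟩ := exists_affine_prime (X := X) r hr
  haveI := hP
  let φ : ULift.{u} ℤ →+* Γ(X, U) ⧸ P := (Spec.preimage (piece hU P ≫ f)).hom
  letI : Algebra (ULift.{u} ℤ) (Γ(X, U) ⧸ P) := φ.toAlgebra
  haveI : IsClosedImmersion (Spec.map (CommRingCat.ofHom (Ideal.Quotient.mk P))) :=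
    IsClosedImmersion.spec_of_surjective _ Ideal.Quotient.mk_surjective
  haveI : LocallyOfFiniteType (piece hU P) := by unfold piece; infer_instance
  haveI : Algebra.FiniteType (ULift.{u} ℤ) (Γ(X, U) ⧸ P) := by
    rw [← RingHom.finiteType_algebraMap]
    show φ.FiniteType
    rw [← HasRingHomProperty.Spec_iff (P := @LocallyOfFiniteType), Spec.map_preimage]
    infer_instance
  obtain ⟨e, he, hnorm⟩ := exists_closedPt_map f hU P
  refine not_summable_int (Γ(X, U) ⧸ P) r hdim h0.le (not_le.mp hlt)
    (((summable_ptNorm_of_lseries f r hr.le hy).comp_injective he).congr fun M => ?_)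
  rw [Function.comp_apply, hnorm]

end Groth.Agent.ZH85.PtLow
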