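import Groth.Agent.ZH85.PtLow.Plane

/-! The lower bound for the number of rational points of a plane curve. -/

noncomputable section

set_option linter.unusedSectionVars false
set_option linter.style.haveILetI false

universe u

open Polynomial FunFld WithZero IntermediateField

namespace Groth.Agent.ZH85.PtLow

-- one path to the module structure of residue fields over the constants
attribute [-instance] IsLocalRing.instModuleResidueFieldOfAlgebra

variable {F E : Type u} [Field F] [Field E] [Algebra F E]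

theorem exists_const_of_deg_one (P : Place F E) (hP : P.deg = 1) (z : E) (hz : P.1 z ≤ 1) :
    ∃ c : F, P.1 (z - algebraMap F E c) < 1 := by
  have htop : (⊥ : Subalgebra F (FFLib.Res P)) = ⊤ := Subalgebra.bot_eq_top_iff_finrank_eq_one.mpr hP
  obtain ⟨c, hc⟩ : IsLocalRing.residue P.O ⟨z, hz⟩ ∈ (⊥ : Subalgebra F (FFLib.Res P)) := by
    rw [htop]; trivial
  refine ⟨c, ?_⟩
  have h0 : IsLocalRing.residue P.O (⟨z, hz⟩ - algebraMap F P.O c) = 0 := by
    rw [map_sub, sub_eq_zero]
    exact hc.symm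
  simpa [FFLib.coe_algebraMap_O] using (FFLib.residue_eq_zero P _).mp h0

section

variable {x y : E} {h : (F[X])[X]} {D d : ℕ} (hev : ev x y h = 0) (hmon : h.Monic)
  (hD : ∀ i, (h.coeff i).natDegree ≤ D) (hd : h.natDegree ≤ d) (hxt : Transcendental F x)
  (hgen : ∀ z : E, ∃ p q : (F[X])[X], ev x y q ≠ 0 ∧ z * ev x y q = ev x y p)

include hev hmon hD hd hxt hgen

theorem genus_le_of_monic (hK : IsFunctionField F E) : genus F E ≤ D * d ^ 2 := by
  obtain ⟨hF, he0, hed, hli⟩ := isFF_and_finrank_le hev hmon hxt hgen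
  set e := Module.finrank F⟮x⟯ E
  set A : Divisor F E := FFLib.poles x
  let n : ℕ := 2 * genus F E + D * d
  let m : ℕ := n + 1 - D * d
  let f : Fin m × Fin e → E := fun p => x ^ (p.1 : ℕ) * y ^ (p.2 : ℕ)
  have hpow : LinearIndependent F fun j : Fin m => (AdjoinSimple.gen F x) ^ (j : ℕ) := by
    refine LinearIndependent.of_comp F⟮x⟯.val.toLinearMap ?_
    have := (FFLib.linearIndependent_powers hxt).comp (fun j : Fin m => (j : ℕ)) Fin.val_injective
    simpa [Function.comp_def] using this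
  have hind : LinearIndependent F f := by
    have h1 := linearIndependent_smul hpow hli
    simpa [f, IntermediateField.smul_def] using h1
  have hmem : ∀ p, f p ∈ L ((n : ℤ) • A) := fun p P => by
    simp only [f, map_mul, map_pow]
    refine (mul_le_mul' (pow_le_pow_left' (FFLib.val_le_exp_poles hF x P) _)
      (pow_le_pow_left' (val_y_le hF hev hmon hD P) _)).trans ?_
    rw [← exp_nsmul, ← exp_nsmul, ← exp_add, exp_le_exp, nsmul_eq_mul, nsmul_eq_mul,
      Finsupp.smul_apply, smul_eq_mul, ← mul_assoc, ← add_mul]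
    refine mul_le_mul_of_nonneg_right ?_ (FFLib.poles_nonneg x P)
    have h1 := p.1.2
    have h2 : (p.2 : ℕ) * D ≤ D * d := by
      have := p.2.2
      nlinarith
    exact_mod_cast (show (p.1 : ℕ) + (p.2 : ℕ) * D ≤ n by omega)
  have hfin := FFLib.L_finite hF ((n : ℤ) • A)
  have hw : LinearIndependent F (fun p => (⟨f p, hmem p⟩ : L ((n : ℤ) • A))) :=
    LinearIndependent.of_comp (Submodule.subtype _) hind
  have hlow := hw.fintype_card_le_finrank
  rw [Fintype.card_prod, Fintype.card_fin, Fintype.card_fin] at hlow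
  have hdeg : ((n : ℤ) • A).deg = n * e := by
    rw [FFLib.deg_zsmul, FFLib.deg_poles hF hxt]
  have hbig : 2 * (genus F E : ℤ) - 2 < ((n : ℤ) • A).deg := by
    rw [hdeg]
    have : (2 * genus F E : ℕ) ≤ n * e :=
      le_trans (by omega) (Nat.le_mul_of_pos_right n he0)
    push_cast
    have h' : ((2 * genus F E : ℕ) : ℤ) ≤ ((n * e : ℕ) : ℤ) := by exact_mod_cast this
    push_cast at h'
    omega
  have hrr := FFLib.ell_of_deg_gt hK hbig
  rw [hdeg] at hrr
  have hlow' : ((m * e : ℕ) : ℤ) ≤ ell ((n : ℤ) • A) := by exact_mod_cast hlow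
  rw [hrr] at hlow'
  have hm : m = 2 * genus F E + 1 := by simp only [m, n]; omega
  rw [hm] at hlow'
  push_cast [n] at hlow'
  have h2 : (1 : ℤ) ≤ e := by exact_mod_cast he0
  have h3 : (e : ℤ) ≤ d := by exact_mod_cast hed.trans hd
  have h4 : (D : ℤ) * d * e ≤ D * d * d := mul_le_mul_of_nonneg_left h3 (by positivity)
  have : (genus F E : ℤ) ≤ D * d ^ 2 := by nlinarith
  exact_mod_cast this

end

section

variable [Finite F] {D d : ℕ}

theorem weil_lower (hK : IsFunctionField F E) :
    (Nat.card F : ℝ) + 1 - 2 * genus F E * Real.sqrt (Nat.card F) ≤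
      Nat.card {P : Place F E // P.deg = 1} := by
  obtain ⟨α, hα, hnorm⟩ := FFLib.norm_sq_root hK
  have h := FFLib.placeCount_eq hK.1 α hα (n := 1) le_rfl
  rw [FFLib.placeCount_one] at h
  simp only [pow_one] at h
  have hre := congrArg Complex.re h
  simp at hre
  have hb : |(∑ i, α i).re| ≤ 2 * genus F E * Real.sqrt (Nat.card F) := by
    refine (Complex.abs_re_le_norm _).trans ((norm_sum_le _ _).trans (le_of_eq ?_))
    rw [Finset.sum_congr rfl (g := fun _ => Real.sqrt (Nat.card F)) fun i _ => by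
      rw [← hnorm i, Real.sqrt_sq (norm_nonneg _)]]
    simp
  rw [hre]
  rw [abs_le] at hb
  simp at hb
  linarith

variable {x y : E} {h : (F[X])[X]} (hev : ev x y h = 0) (hmon : h.Monic)
  (hD : ∀ i, (h.coeff i).natDegree ≤ D) (hd : h.natDegree ≤ d) (hxt : Transcendental F x)
  (hgen : ∀ z : E, ∃ p q : (F[X])[X], ev x y q ≠ 0 ∧ z * ev x y q = ev x y p)
  {a b : F} (hsimple : h.derivative.evalEval a b ≠ 0) (hab : h.evalEval a b = 0)
  (hker : ∀ p, ev x y p = 0 → p.evalEval a b = 0)

include hev hmon hxt hgen hker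

theorem exists_place_over : ∃ P : Place F E, P.1 (x - algebraMap F E a) < 1 ∧ P.1 (y - algebraMap F E b) < 1 := by
  obtain ⟨hF, -, -, -⟩ := isFF_and_finrank_le hev hmon hxt hgen
  let R := (ev (F := F) x y).range
  let I : Ideal R := (RingHom.ker (Polynomial.evalEvalRingHom a b)).map (ev x y).rangeRestrict
  have hI : I ≠ ⊤ := fun htop => by
    obtain ⟨p, hp, hp1⟩ := (Ideal.mem_map_iff_of_surjective _ (ev x y).rangeRestrict_surjective).mp
      ((Ideal.eq_top_iff_one I).mp htop)
    have h1 : ev x y (p - 1) = 0 := by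
      rw [map_sub, map_one, sub_eq_zero]
      exact congrArg Subtype.val hp1
    have := hker _ h1
    simp [RingHom.mem_ker] at hp
    simp [hp] at this
  obtain ⟨V, hV, hV'⟩ := Ideal.image_subset_nonunits_valuationSubring I hI
  have hmemI : ∀ p : (F[X])[X], p.evalEval a b = 0 → ev x y p ∈ V.nonunits := fun p hp =>
    hV' ⟨⟨ev x y p, p, rfl⟩, Ideal.mem_map_of_mem _ (by simpa [RingHom.mem_ker] using hp), rfl⟩
  have hxa : x - algebraMap F E a ≠ 0 := fun e => hxt (by
    rw [sub_eq_zero.mp e]; exact isAlgebraic_algebraMap a)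
  have h1 : x - algebraMap F E a ∈ V.nonunits := by
    have h := hmemI (C (X - C a)) (by simp [evalEval_C])
    rwa [ev_C, map_sub, aeval_X, aeval_C] at h
  have h2 : y - algebraMap F E b ∈ V.nonunits := by
    have h := hmemI (X - C (C b)) (by simp)
    rwa [map_sub, ev_X, ev_CC] at h
  have hk : ∀ c : F, algebraMap F E c ∈ V := fun c => hV ⟨C (C c), ev_CC x y c⟩
  rw [ValuationSubring.mem_nonunits_iff] at h1 h2
  obtain ⟨P, hP⟩ := FFLib.exists_place_of_valuation (v := V.valuation) hF
    (fun c => (V.valuation_le_one_iff _).mpr (hk c)) ⟨_, hxa, h1⟩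
  have key : ∀ z : E, V.valuation z < 1 → P.1 z < 1 := by
    intro z hz
    rcases eq_or_ne z 0 with rfl | hz0
    · simp
    refine lt_of_not_ge fun hge => ?_
    have : P.1 z⁻¹ ≤ 1 := by rw [map_inv₀]; exact inv_le_one_of_one_le₀ hge
    rw [hP, map_inv₀, inv_le_one₀ (zero_lt_iff.mpr (by simpa using hz0))] at this
    exact absurd this (not_le.mpr hz)
  exact ⟨P, key _ h1, key _ h2⟩

include hsimple hab hD hd

theorem card_ge_of_model (B : F[X]) (hB : B.natDegree ≤ D) (hBa : B.eval a ≠ 0) :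
    (Nat.card F : ℝ) - ((2 * D * d ^ 2 + d + (2 * D + D * d) * d : ℕ) : ℝ) * Real.sqrt (Nat.card F) ≤
      Nat.card {p : F × F // h.evalEval p.1 p.2 = 0 ∧ B.eval p.1 ≠ 0} := by
  classical
  obtain ⟨hF, he0, hed, -⟩ := isFF_and_finrank_le hev hmon hxt hgen
  obtain ⟨P₀, hP₀x, hP₀y⟩ := exists_place_over hev hmon hxt hgen hker
  have hdeg1 := deg_eq_one hev hsimple hab hxt hgen hF hP₀x hP₀y
  have hK : IsFunctionField F E := by
    refine ⟨hF, fun z hz => ?_⟩
    rcases eq_or_ne z 0 with rfl | hz0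
    · exact ⟨0, map_zero _⟩
    have hzO : z ∈ P₀.O := by
      rw [FFLib.mem_O_iff]
      by_contra hlt
      exact FFLib.transcendental_of_val_ne_one P₀ hz0 (ne_of_gt (not_le.mp hlt)) hz
    obtain ⟨c, hlt⟩ := exists_const_of_deg_one P₀ hdeg1 z ((FFLib.mem_O_iff P₀ z).mp hzO)
    refine ⟨c, ?_⟩
    by_contra hne
    have hne0 : z - algebraMap F E c ≠ 0 := sub_ne_zero.mpr (Ne.symm hne)
    exact FFLib.transcendental_of_val_ne_one P₀ hne0 hlt.ne (hz.sub (isAlgebraic_algebraMap c))
  have hg := genus_le_of_monic hev hmon hD hd hxt hgen hK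
  let W : (F[X])[X] := C B * h.derivative
  have hWab : W.evalEval a b ≠ 0 := by simp [W, evalEval_C, hBa, hsimple]
  have hW0 : ev x y W ≠ 0 := ev_ne_zero hP₀x hP₀y hWab
  let M : ℕ := 2 * D + D * d
  let A : Divisor F E := FFLib.poles x
  have hWD : ∀ i, (W.coeff i).natDegree ≤ 2 * D := fun i => by
    simp only [W, coeff_C_mul, coeff_derivative]
    refine natDegree_mul_le.trans (Nat.le_trans (add_le_add hB (natDegree_mul_le.trans ?_)) (two_mul D).ge)
    rw [show ((i : F[X]) + 1).natDegree = 0 from by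
      rw [show ((i : F[X]) + 1) = C ((i : F) + 1) by simp]; exact natDegree_C _, add_zero]
    exact hD _
  have hWd : W.natDegree ≤ d :=
    (natDegree_C_mul_le _ _).trans ((natDegree_derivative_le h).trans (by omega))
  have hWle : ∀ P : Place F E, P.1 (ev x y W) ≤ exp ((M : ℤ) * A P) :=
    fun P => val_ev_le hF hev hmon hD W hWD hWd P
  let T : Divisor F E := (M : ℤ) • A + FunFld.div F (ev x y W) + A
  have hT0 : ∀ P : Place F E, 0 ≤ ((M : ℤ) • A + FunFld.div F (ev x y W)) P := fun P => by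
    have := (FFLib.val_le_exp_iff P hW0 _).mp (hWle P)
    rw [Finsupp.add_apply, Finsupp.smul_apply, smul_eq_mul, FFLib.div_apply hF]
    linarith
  have hTdeg : T.deg = (M + 1 : ℕ) * (Module.finrank F⟮x⟯ E : ℤ) := by
    simp only [T, FFLib.Divisor.deg_add, FFLib.deg_zsmul, FFLib.deg_div hF, A, FFLib.deg_poles hF hxt]
    push_cast; ring
  have := Fintype.ofFinite F
  let N1 := {P : Place F E // P.deg = 1}
  have hfin1 : Finite N1 := by
    have h0 := FFLib.finite_deg_dvd hF (N := 1) one_pos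
    simp only [Nat.dvd_one] at h0
    exact h0.to_subtype
  have := Fintype.ofFinite N1
  let bad : Finset N1 := Finset.univ.filter fun P => 1 ≤ T P.1
  have hbad : bad.card ≤ (M + 1) * d := by
    have hTnn : ∀ P, 0 ≤ T P := fun P => by
      have := hT0 P
      have := FFLib.poles_nonneg (k := F) x P
      simp only [T, A, Finsupp.add_apply, Finsupp.coe_zero, Pi.zero_apply] at *
      linarith
    have h1 : (bad.card : ℤ) ≤ T.deg := by
      rw [Divisor.deg, Finsupp.sum]
      calc (bad.card : ℤ) = ∑ P ∈ bad.image Subtype.val, (1 : ℤ) := by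
            rw [Finset.sum_const, Finset.card_image_of_injective _ Subtype.val_injective]; simp
        _ ≤ ∑ P ∈ bad.image Subtype.val, T P * (P.deg : ℤ) := Finset.sum_le_sum fun P hP => by
            obtain ⟨Q, hQ, rfl⟩ := Finset.mem_image.mp hP
            rw [Q.2, Nat.cast_one, mul_one]
            exact (Finset.mem_filter.mp hQ).2
        _ ≤ ∑ P ∈ T.support, T P * (P.deg : ℤ) := by
            refine Finset.sum_le_sum_of_subset_of_nonneg (fun P hP => ?_) fun P _ _ =>
              mul_nonneg (hTnn P) (Nat.cast_nonneg _)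
            obtain ⟨Q, hQ, rfl⟩ := Finset.mem_image.mp hP
            rw [Finsupp.mem_support_iff]
            have := (Finset.mem_filter.mp hQ).2
            omega
    rw [hTdeg] at h1
    have h2 : ((M + 1 : ℕ) : ℤ) * (Module.finrank F⟮x⟯ E : ℤ) ≤ (((M + 1) * d : ℕ) : ℤ) := by
      exact_mod_cast Nat.mul_le_mul_left (M + 1) (hed.trans hd)
    exact_mod_cast h1.trans h2
  have hgood : ∀ P : {P : N1 // P ∉ bad}, ∃ p : F × F, P.1.1.1 (x - algebraMap F E p.1) < 1 ∧
      P.1.1.1 (y - algebraMap F E p.2) < 1 ∧ W.evalEval p.1 p.2 ≠ 0 ∧ h.evalEval p.1 p.2 = 0 := by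
    rintro ⟨⟨P, hP⟩, hb⟩
    have hb' : T P < 1 := by simpa [bad] using hb
    have h0 := hT0 P
    have hA0 : 0 ≤ A P := FFLib.poles_nonneg x P
    simp only [T, Finsupp.add_apply] at hb'
    have hAP : A P = 0 := by rw [Finsupp.add_apply] at h0; omega
    have hxP : P.1 x ≤ 1 := by
      refine (FFLib.val_le_exp_poles hF x P).trans (le_of_eq ?_)
      rw [show FFLib.poles x P = 0 from hAP, exp_zero]
    have hyP : P.1 y ≤ 1 := by
      refine (val_y_le hF hev hmon hD P).trans (le_of_eq ?_)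
      rw [show FFLib.poles x P = 0 from hAP, mul_zero, exp_zero]
    have hres := exists_const_of_deg_one P hP
    obtain ⟨s, hs⟩ := hres x hxP
    obtain ⟨t, ht⟩ := hres y hyP
    refine ⟨(s, t), hs, ht, fun h0W => ?_, ?_⟩
    · have hlt := val_ev_sub_lt hs ht W
      rw [h0W, map_zero, sub_zero] at hlt
      have hpos := (FFLib.val_lt_one_iff P hW0).mp hlt
      rw [Finsupp.smul_apply, smul_eq_mul, hAP, mul_zero, FFLib.div_apply hF] at hb'
      omega
    · by_contra hne
      exact ev_ne_zero hs ht hne hev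
  choose pt hpt using hgood
  have hmaps : ∀ P, h.evalEval (pt P).1 (pt P).2 = 0 ∧ B.eval (pt P).1 ≠ 0 := fun P =>
    ⟨(hpt P).2.2.2, fun h0 => (hpt P).2.2.1 (by simp [W, evalEval_C, h0])⟩
  have hinj : Function.Injective fun P => (⟨pt P, hmaps P⟩ : {p : F × F // h.evalEval p.1 p.2 = 0 ∧ B.eval p.1 ≠ 0}) := by
    intro P Q hPQ
    have hpq : pt P = pt Q := congrArg Subtype.val hPQ
    have hW : (h.derivative).evalEval (pt P).1 (pt P).2 ≠ 0 := fun h0 =>
      (hpt P).2.2.1 (by simp [W, evalEval_C, h0])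
    have h1 := (hpt Q).1
    have h2 := (hpt Q).2.1
    rw [← hpq] at h1 h2
    exact Subtype.ext (Subtype.ext (place_unique hev hW (hpt P).2.2.2 hxt hgen (hpt P).1 (hpt P).2.1 h1 h2))
  have hcard := Nat.card_le_card_of_injective _ hinj
  rw [Nat.card_eq_fintype_card (α := {P : N1 // P ∉ bad}), Fintype.card_subtype_compl, Fintype.card_coe,
    ← Nat.card_eq_fintype_card] at hcard
  have hw := weil_lower hK
  have hcard' : (Nat.card N1 : ℝ) ≤ Nat.card {p : F × F // h.evalEval p.1 p.2 = 0 ∧ B.eval p.1 ≠ 0} +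
      ((M + 1) * d : ℕ) := by
    have : Nat.card N1 ≤ Nat.card {p : F × F // h.evalEval p.1 p.2 = 0 ∧ B.eval p.1 ≠ 0} + (M + 1) * d := by
      omega
    exact_mod_cast this
  have hg' : (genus F E : ℝ) ≤ ((D * d ^ 2 : ℕ) : ℝ) := by exact_mod_cast hg
  have hs1 : 1 ≤ Real.sqrt (Nat.card F) :=
    Real.one_le_sqrt.mpr (by exact_mod_cast (Nat.one_le_iff_ne_zero.mpr Nat.card_pos.ne'))
  have h5 : ((M + 1) * d : ℕ) ≤ (((M + 1) * d : ℕ) : ℝ) * Real.sqrt (Nat.card F) :=
    le_mul_of_one_le_right (by positivity) hs1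
  push_cast [M] at *
  nlinarith [mul_le_mul_of_nonneg_right hg' (Real.sqrt_nonneg (Nat.card F : ℝ))]

end

/-- A monic polynomial has a monic irreducible factor at each of its zeros. -/
theorem exists_monic_factor {h : (F[X])[X]} (hmon : h.Monic) {a b : F} (hab : h.evalEval a b = 0) :
    ∃ h₁ : (F[X])[X], h₁.Monic ∧ Irreducible h₁ ∧ h₁ ∣ h ∧ h₁.evalEval a b = 0 := by
  obtain ⟨u, hu⟩ := UniqueFactorizationMonoid.factors_prod hmon.ne_zero
  have h0 : ((UniqueFactorizationMonoid.factors h).map (evalEvalRingHom a b)).prod = 0 := by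
    have := congrArg (evalEvalRingHom a b) hu
    rw [map_mul, map_multiset_prod] at this
    rw [show evalEvalRingHom a b h = 0 from hab] at this
    exact (mul_eq_zero.mp this).resolve_right (u.isUnit.map _).ne_zero
  obtain ⟨g, hg, hg0⟩ := Multiset.mem_map.mp (Multiset.prod_eq_zero_iff.mp h0)
  have hdvd := UniqueFactorizationMonoid.dvd_of_mem_factors hg
  have hirr := UniqueFactorizationMonoid.irreducible_of_factor g hg
  have hlead : IsUnit g.leadingCoeff := isUnit_of_dvd_one (hmon.leadingCoeff ▸ leadingCoeff_dvd_leadingCoeff hdvd)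
  obtain ⟨v, hv⟩ := hlead
  have hassoc : Associated g (g * C ((v⁻¹ : (F[X])ˣ) : F[X])) :=
    associated_mul_unit_right g _ (isUnit_C.mpr (v⁻¹).isUnit)
  refine ⟨g * C ((v⁻¹ : (F[X])ˣ) : F[X]), ?_, hassoc.irreducible hirr, hassoc.symm.dvd.trans hdvd, ?_⟩
  · rw [Monic.def, leadingCoeff_mul, leadingCoeff_C, ← hv, Units.mul_inv]
  · rw [evalEval_mul, show g.evalEval a b = 0 from hg0, zero_mul]

/-- **Points on a plane curve through a simple rational point.** -/
theorem plane_card_ge (D d : ℕ) : ∃ c : ℕ, ∀ (F : Type u) [Field F] [Finite F] (h : (F[X])[X]),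
    h.Monic → h.natDegree ≤ d → (∀ i, (h.coeff i).natDegree ≤ D) → ∀ (B : F[X]), B.natDegree ≤ D →
    ∀ a b : F, h.evalEval a b = 0 → h.derivative.evalEval a b ≠ 0 → B.eval a ≠ 0 →
    (Nat.card F : ℝ) - c * Real.sqrt (Nat.card F) ≤
      Nat.card {p : F × F // h.evalEval p.1 p.2 = 0 ∧ B.eval p.1 ≠ 0} := by
  refine ⟨2 * D * d ^ 2 + d + (2 * D + D * d) * d,
    fun F _ _ h hmon hd hD B hB a b hab hsimple hBa => ?_⟩
  obtain ⟨h₁, hm1, hirr, hdvd, h10⟩ := exists_monic_factor hmon hab
  let g : (RatFunc F)[X] := h₁.map (algebraMap F[X] (RatFunc F))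
  have hg : Irreducible g := hm1.irreducible_iff_irreducible_map_fraction_map.mp hirr
  haveI : Fact (Irreducible g) := ⟨hg⟩
  let E := AdjoinRoot g
  let x : E := algebraMap (RatFunc F) E RatFunc.X
  let y : E := AdjoinRoot.root g
  have hx : ∀ p : F[X], aeval x p = algebraMap (RatFunc F) E (algebraMap F[X] (RatFunc F) p) := fun p => by
    simp only [x, aeval_algebraMap_apply]
    rw [← RatFunc.algebraMap_X, aeval_algebraMap_apply, aeval_X_left_apply]
  have hev' : ∀ p : (F[X])[X], ev x y p = AdjoinRoot.mk g (p.map (algebraMap F[X] (RatFunc F))) := fun p => by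
    rw [← AdjoinRoot.aeval_eq, aeval_def, eval₂_map]
    exact congrArg (fun f => eval₂ f y p) (RingHom.ext hx)
  have hxt : Transcendental F x := by
    rw [transcendental_iff]
    intro p hp
    rw [hx, map_eq_zero_iff _ (algebraMap (RatFunc F) E).injective,
      map_eq_zero_iff _ (RatFunc.algebraMap_injective F)] at hp
    exact hp
  have hker : ∀ p, ev x y p = 0 → h₁ ∣ p := fun p hp => by
    rw [hev', AdjoinRoot.mk_eq_zero] at hp
    exact (Polynomial.map_dvd_map _ (RatFunc.algebraMap_injective F) hm1).mp hp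
  have hev : ev x y h = 0 := by
    obtain ⟨q, rfl⟩ := hdvd
    rw [map_mul, hev' h₁, AdjoinRoot.mk_self, zero_mul]
  have hgen : ∀ z : E, ∃ p q : (F[X])[X], ev x y q ≠ 0 ∧ z * ev x y q = ev x y p := fun z => by
    obtain ⟨q, rfl⟩ := AdjoinRoot.mk_surjective z
    obtain ⟨c, hc, hc'⟩ := IsLocalization.integerNormalization_spec (nonZeroDivisors F[X]) q
    refine ⟨IsLocalization.integerNormalization (nonZeroDivisors F[X]) q, C c, ?_, ?_⟩
    · rw [ev_C, hx]
      exact (map_ne_zero_iff _ (algebraMap (RatFunc F) E).injective).mpr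
        ((map_ne_zero_iff _ (RatFunc.algebraMap_injective F)).mpr (nonZeroDivisors.ne_zero hc))
    · rw [hev' (IsLocalization.integerNormalization _ q), hc', hev', Polynomial.map_C,
        ← IsScalarTower.algebraMap_smul (RatFunc F) c q, ← C_mul', map_mul, mul_comm]
  exact card_ge_of_model hev hmon hD hd hxt hgen hsimple hab (fun p hp => by
    obtain ⟨q, rfl⟩ := hker p hp
    rw [evalEval_mul, h10, zero_mul]) B hB hBa

end Groth.Agent.ZH85.PtLow
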