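import Mathlib.RingTheory.AlgebraicIndependent.Adjoin
import Mathlib.RingTheory.AlgebraicIndependent.TranscendenceBasis
import Mathlib.FieldTheory.IntermediateField.Adjoin.Algebra
import Mathlib.FieldTheory.Minpoly.IsIntegrallyClosed
import Mathlib.FieldTheory.PrimitiveElement
import Mathlib.RingTheory.Localization.Away.Basic
import Mathlib.RingTheory.Localization.Integral
import Mathlib.RingTheory.EssentialFiniteness
import Mathlib.RingTheory.Polynomial.UniqueFactorization
import Mathlib.RingTheory.AdjoinRoot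
import Mathlib.RingTheory.Polynomial.RationalRoot

/-! A birational hypersurface model `g(x, y) = 0` of a finitely generated domain. -/

noncomputable section

set_option linter.unusedSectionVars false
set_option linter.style.haveILetI false

universe u

open Polynomial

namespace Groth.Agent.ZH85.PtLow

variable {R L : Type u} [CommRing R] [Field L] [Algebra R L] {n : ℕ}

/-- Evaluation at `(x, y)`. -/
def pev (x : Fin n → L) (y : L) : (MvPolynomial (Fin n) R)[X] →+* L :=
  Polynomial.eval₂RingHom (MvPolynomial.aeval x).toRingHom y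

theorem pev_C (x : Fin n → L) (y : L) (p : MvPolynomial (Fin n) R) :
    pev x y (C p) = MvPolynomial.aeval x p := by simp [pev]

theorem pev_X (x : Fin n → L) (y : L) : pev (R := R) x y X = y := by simp [pev]

/-- `g(x, y) = 0` is a separable birational model of `L`. -/
structure IsModel (x : Fin n → L) (y : L) (g : (MvPolynomial (Fin n) R)[X]) : Prop where
  monic : g.Monic
  root : pev x y g = 0
  ker : ∀ p, pev x y p = 0 → g ∣ p
  gen : ∀ z : L, ∃ (p : (MvPolynomial (Fin n) R)[X]) (c : MvPolynomial (Fin n) R),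
    MvPolynomial.aeval x c ≠ 0 ∧ z * MvPolynomial.aeval x c = pev x y p
  sep : pev x y g.derivative ≠ 0
  indep : AlgebraicIndependent R x

/-- A model exists when every element satisfies a relation with nonvanishing derivative. -/
theorem exists_model [IsDomain R] [UniqueFactorizationMonoid R] [Algebra.EssFiniteType R L]
    {x : Fin n → L} (hx : AlgebraicIndependent R x)
    (hsep : ∀ z : L, ∃ p : (MvPolynomial (Fin n) R)[X], pev x z p = 0 ∧ pev x z p.derivative ≠ 0) :
    ∃ y g, IsModel (R := R) x y g := by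
  classical
  letI : Algebra (MvPolynomial (Fin n) R) L := (MvPolynomial.aeval x).toRingHom.toAlgebra
  haveI : IsScalarTower R (MvPolynomial (Fin n) R) L :=
    IsScalarTower.of_algebraMap_eq fun c => ((MvPolynomial.aeval x).commutes c).symm
  have hinj : Function.Injective (algebraMap (MvPolynomial (Fin n) R) L) := hx
  haveI : FaithfulSMul (MvPolynomial (Fin n) R) L := (faithfulSMul_iff_algebraMap_injective _ _).2 hinj
  letI : Algebra (FractionRing (MvPolynomial (Fin n) R)) L := FractionRing.liftAlgebra _ L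
  set K1 := FractionRing (MvPolynomial (Fin n) R)
  have hev : ∀ (z : L) (p : (MvPolynomial (Fin n) R)[X]), pev x z p = aeval z p := fun z p => rfl
  have hev1 : ∀ (z : L) (p : (MvPolynomial (Fin n) R)[X]),
      pev x z p = aeval z (p.map (algebraMap (MvPolynomial (Fin n) R) K1)) := fun z p => by
    rw [aeval_map_algebraMap, hev]
  haveI : Algebra.IsSeparable K1 L := ⟨fun z => by
    obtain ⟨p, hp, hp'⟩ := hsep z
    have hp0 : p.map (algebraMap (MvPolynomial (Fin n) R) K1) ≠ 0 := fun e => hp' (by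
      rw [hev1, ← derivative_map, e, derivative_zero, map_zero])
    have hz : IsIntegral K1 z := IsAlgebraic.isIntegral ⟨_, hp0, by rw [← hev1, hp]⟩
    rw [IsSeparable, separable_iff_derivative_ne_zero (minpoly.irreducible hz)]
    intro hd
    obtain ⟨q, hq⟩ := minpoly.dvd K1 z (show aeval z (p.map (algebraMap _ K1)) = 0 by rw [← hev1, hp])
    apply hp'
    rw [hev1, ← derivative_map, hq, derivative_mul, hd, zero_mul, zero_add, map_mul, minpoly.aeval,
      zero_mul]⟩
  haveI : Algebra.EssFiniteType K1 L := Algebra.EssFiniteType.of_comp R K1 L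
  haveI : FiniteDimensional K1 L := Algebra.finite_of_essFiniteType_of_isAlgebraic
  obtain ⟨α, hα⟩ := Field.exists_primitive_element K1 L
  obtain ⟨⟨c, hc⟩, hcint⟩ := IsIntegral.exists_multiple_integral_of_isLocalization
    (nonZeroDivisors (MvPolynomial (Fin n) R)) α (IsIntegral.of_finite K1 α)
  set y : L := c • α
  have hy : IsIntegral (MvPolynomial (Fin n) R) y := hcint
  refine ⟨y, minpoly (MvPolynomial (Fin n) R) y, minpoly.monic hy, by rw [hev, minpoly.aeval],
    fun p hp => minpoly.isIntegrallyClosed_dvd hy (by rw [← hev, hp]), fun z => ?_, ?_, hx⟩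
  · have hc0 : algebraMap (MvPolynomial (Fin n) R) L c ≠ 0 :=
      (map_ne_zero_iff _ hinj).mpr (nonZeroDivisors.ne_zero hc)
    have hαy : α ∈ IntermediateField.adjoin K1 {y} := by
      have : α = (algebraMap K1 L (algebraMap (MvPolynomial (Fin n) R) K1 c))⁻¹ * y := by
        rw [← IsScalarTower.algebraMap_apply, show y = algebraMap (MvPolynomial (Fin n) R) L c * α from Algebra.smul_def c α,
          inv_mul_cancel_left₀ hc0]
      rw [this]
      exact mul_mem (inv_mem (IntermediateField.algebraMap_mem _ _)) (IntermediateField.mem_adjoin_simple_self K1 y)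
    have htop : IntermediateField.adjoin K1 {y} = ⊤ := by
      rw [eq_top_iff, ← hα, IntermediateField.adjoin_simple_le_iff]
      exact hαy
    have hz : z ∈ (IntermediateField.adjoin K1 {y}).toSubalgebra := by rw [htop]; trivial
    rw [IntermediateField.adjoin_simple_toSubalgebra_of_isAlgebraic (hy.tower_top (A := K1)).isAlgebraic,
      Algebra.adjoin_singleton_eq_range_aeval] at hz
    obtain ⟨P, hP⟩ := hz
    obtain ⟨b, hb, hb'⟩ := IsLocalization.integerNormalization_spec (nonZeroDivisors (MvPolynomial (Fin n) R)) P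
    refine ⟨IsLocalization.integerNormalization (nonZeroDivisors _) P, b, ?_, ?_⟩
    · exact (map_ne_zero_iff _ hinj).mpr (nonZeroDivisors.ne_zero hb)
    · rw [hev1, hb', AlgHom.map_smul_of_tower, show aeval y P = z from hP, Algebra.smul_def, mul_comm]
      rfl
  · rw [hev1, ← derivative_map, ← minpoly.isIntegrallyClosed_eq_field_fractions' K1 hy]
    exact (Algebra.IsSeparable.isSeparable K1 y).aeval_derivative_ne_zero (minpoly.aeval K1 y)

variable {x : Fin n → L} {y : L} {g : (MvPolynomial (Fin n) R)[X]}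

/-- Points of the model give homomorphisms out of the domain. -/
theorem IsModel.exists_homs (hM : IsModel (R := R) x y g) {A : Type u} [CommRing A] [Algebra R A]
    [Algebra.FiniteType R A] (j : A →ₐ[R] L) (hj : Function.Injective j)
    (hfrac : ∀ z : L, ∃ p q : A, j q ≠ 0 ∧ z * j q = j p) :
    ∃ B : MvPolynomial (Fin n) R, MvPolynomial.aeval x B ≠ 0 ∧
      ∀ (F : Type u) [Field F] [Algebra R F],
        ∃ Φ : {p : (Fin n → F) × F // (g.map (MvPolynomial.aeval p.1).toRingHom).eval p.2 = 0 ∧
          MvPolynomial.aeval p.1 B ≠ 0} → (A →ₐ[R] F), Function.Injective Φ := by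
  classical
  obtain ⟨gens, hgens⟩ := Algebra.FiniteType.out (R := R) (A := A)
  choose px qx hqx hpx using fun i => hfrac (x i)
  obtain ⟨py, qy, hqy, hpy⟩ := hfrac y
  let a0 : A := (∏ i, qx i) * qy
  have ha0 : j a0 ≠ 0 := by
    simp only [a0, map_mul, map_prod]
    exact mul_ne_zero (Finset.prod_ne_zero_iff.mpr fun i _ => hqx i) hqy
  have hxa : ∀ i, ∃ a, x i * j a0 = j a := fun i => by
    obtain ⟨w, hw⟩ := (Finset.dvd_prod_of_mem qx (Finset.mem_univ i) : qx i ∣ ∏ l, qx l)
    refine ⟨px i * (w * qy), ?_⟩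
    simp only [a0, hw, map_mul, ← hpx i]
    ring
  have hya : ∃ a, y * j a0 = j a := ⟨py * ∏ i, qx i, by simp only [a0, map_mul, ← hpy]; ring⟩
  let T : Finset L := insert (j a0)⁻¹ (gens.image j)
  choose pT cT hcT hpT using fun t : L => hM.gen t
  let B : MvPolynomial (Fin n) R := ∏ t ∈ T, cT t
  have hB : MvPolynomial.aeval x B ≠ 0 := by
    simp only [B, map_prod]
    exact Finset.prod_ne_zero_iff.mpr fun t _ => hcT t
  refine ⟨B, hB, fun F _ _ => ?_⟩
  let b : AdjoinRoot g := AdjoinRoot.of g B
  let Loc := Localization.Away b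
  let ρ : AdjoinRoot g →ₐ[R] L := AdjoinRoot.liftAlgHom g (MvPolynomial.aeval x) y hM.root
  have hρ : ∀ p, ρ (AdjoinRoot.mk g p) = pev x y p := fun p => AdjoinRoot.lift_mk hM.root p
  have hρi : Function.Injective ρ := by
    rw [injective_iff_map_eq_zero]
    intro z hz
    obtain ⟨p, rfl⟩ := AdjoinRoot.mk_surjective z
    rw [hρ] at hz
    exact AdjoinRoot.mk_eq_zero.mpr (hM.ker p hz)
  have hb : ρ b = MvPolynomial.aeval x B := by
    show ρ (AdjoinRoot.mk g (C B)) = _
    rw [hρ, pev_C]
  let θ : Loc →ₐ[R] L := IsLocalization.liftAlgHom (M := Submonoid.powers b) (f := ρ) (by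
    rintro ⟨_, m, rfl⟩
    exact isUnit_iff_ne_zero.mpr (by simp [hb, hB]))
  have hθ : ∀ z, θ (algebraMap (AdjoinRoot g) Loc z) = ρ z := fun z => IsLocalization.lift_eq _ z
  have hθi : Function.Injective θ := by
    show Function.Injective (IsLocalization.lift _)
    rw [IsLocalization.lift_injective_iff]
    refine fun u v => ⟨fun h => ?_, fun h => ?_⟩
    · have := congrArg θ h
      rwa [hθ, hθ] at this
    · exact congrArg _ (hρi h)
  have hT : ∀ t ∈ T, t ∈ θ.range := fun t ht => by
    obtain ⟨w, hw⟩ : cT t ∣ B := Finset.dvd_prod_of_mem cT ht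
    let u : Loc := IsLocalization.mk' Loc (AdjoinRoot.mk g (pT t * C w)) ⟨b, Submonoid.mem_powers b⟩
    refine ⟨u, ?_⟩
    have h1 : θ u * θ (algebraMap _ Loc b) = θ (algebraMap _ Loc (AdjoinRoot.mk g (pT t * C w))) := by
      rw [← map_mul]
      exact congrArg θ (IsLocalization.mk'_spec Loc _ _)
    rw [hθ, hθ, hb, hρ, map_mul, pev_C, ← hpT t] at h1
    refine mul_right_cancel₀ hB (h1.trans ?_)
    rw [hw, map_mul]
    ring
  have hjA : ∀ a : A, j a ∈ θ.range := fun a => by
    have h1 : (Algebra.adjoin R (gens : Set A)).map j ≤ θ.range := by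
      rw [AlgHom.map_adjoin, Algebra.adjoin_le_iff]
      rintro _ ⟨s, hs, rfl⟩
      exact hT _ (Finset.mem_insert_of_mem (Finset.mem_image_of_mem j hs))
    exact h1 ⟨a, by rw [hgens]; trivial, rfl⟩
  let ψ : A →ₐ[R] Loc := (AlgEquiv.ofInjective θ hθi).symm.toAlgHom.comp (j.codRestrict θ.range hjA)
  have hψ : ∀ a, θ (ψ a) = j a := fun a => by
    have := (AlgEquiv.ofInjective θ hθi).apply_symm_apply (j.codRestrict θ.range hjA a)
    exact congrArg Subtype.val this
  obtain ⟨v, hv⟩ := hT _ (Finset.mem_insert_self _ _)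
  have huv : ψ a0 * v = 1 := hθi (by
    rw [map_mul, hψ, map_one, show θ v = (j a0)⁻¹ from hv, mul_inv_cancel₀ ha0])
  let Pt := {p : (Fin n → F) × F // (g.map (MvPolynomial.aeval p.1).toRingHom).eval p.2 = 0 ∧
          MvPolynomial.aeval p.1 B ≠ 0}
  let φ0 : Pt → (AdjoinRoot g →ₐ[R] F) := fun p =>
    AdjoinRoot.liftAlgHom g (MvPolynomial.aeval p.1.1) p.1.2 (by
      have := p.2.1
      rwa [eval_map] at this)
  let φ : Pt → (Loc →ₐ[R] F) := fun p => IsLocalization.liftAlgHom (M := Submonoid.powers b) (f := φ0 p) (by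
    rintro ⟨_, m, rfl⟩
    refine isUnit_iff_ne_zero.mpr ?_
    rw [map_pow]
    refine pow_ne_zero m ?_
    have : φ0 p b = MvPolynomial.aeval p.1.1 B := by simp [φ0, b]
    rw [this]
    exact p.2.2)
  have hφX : ∀ p i, φ p (algebraMap _ Loc (AdjoinRoot.of g (MvPolynomial.X i))) = p.1.1 i := fun p i => by
    show IsLocalization.lift _ _ = _
    rw [IsLocalization.lift_eq]
    show φ0 p (AdjoinRoot.of g (MvPolynomial.X i)) = _
    simp [φ0]
  have hφY : ∀ p, φ p (algebraMap _ Loc (AdjoinRoot.root g)) = p.1.2 := fun p => by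
    show IsLocalization.lift _ _ = _
    rw [IsLocalization.lift_eq]
    show φ0 p (AdjoinRoot.root g) = _
    simp [φ0]
  have hX : ∀ i, ∃ a, algebraMap _ Loc (AdjoinRoot.of g (MvPolynomial.X i)) * ψ a0 = ψ a := fun i => by
    obtain ⟨a, ha⟩ := hxa i
    refine ⟨a, hθi ?_⟩
    rw [map_mul, hθ, hψ, hψ, ← ha]
    congr 1
    exact (hρ (C (MvPolynomial.X i))).trans (by rw [pev_C, MvPolynomial.aeval_X])
  have hY : ∃ a, algebraMap _ Loc (AdjoinRoot.root g) * ψ a0 = ψ a := by
    obtain ⟨a, ha⟩ := hya
    refine ⟨a, hθi ?_⟩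
    rw [map_mul, hθ, hψ, hψ, ← ha]
    congr 1
    exact (hρ X).trans (pev_X x y)
  refine ⟨fun p => (φ p).comp ψ, fun p p' hpp' => ?_⟩
  have hA : ∀ a, φ p (ψ a) = φ p' (ψ a) := fun a => AlgHom.congr_fun hpp' a
  have hcancel : ∀ z : Loc, (∃ a, z * ψ a0 = ψ a) → φ p z = φ p' z := by
    rintro z ⟨a, ha⟩
    have hne : φ p (ψ a0) ≠ 0 := fun h0 => by
      have := congrArg (φ p) huv
      rw [map_mul, h0, zero_mul, map_one] at this
      exact zero_ne_one this
    have h1 := congrArg (φ p) ha
    have h2 := congrArg (φ p') ha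
    rw [map_mul] at h1 h2
    rw [hA a, ← h2, hA a0] at h1
    rw [hA] at hne
    exact mul_right_cancel₀ hne h1
  refine Subtype.ext (Prod.ext (funext fun i => ?_) ?_)
  · rw [← hφX p i, ← hφX p' i, hcancel _ (hX i)]
  · rw [← hφY p, ← hφY p', hcancel _ hY]

end Groth.Agent.ZH85.PtLow
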