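import Groth.Agent.ZH85.PtLow.Lines
import Groth.Agent.ZH85.PtLow.Model
import Groth.Agent.VarDim.Basic
import Mathlib.FieldTheory.SeparablyGenerated
import Mathlib.FieldTheory.Finite.GaloisField
import Mathlib.RingTheory.Jacobson.Ring

/-! A finitely generated domain of dimension `r` over a finite field has many points. -/

noncomputable section

set_option linter.unusedSectionVars false
set_option linter.style.haveILetI false

universe u

open Polynomial

namespace Groth.Agent.ZH85.PtLow

/-- A finitely generated field extension of a perfect field has a model. -/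
theorem exists_model_perfect (k L : Type u) [Field k] [PerfectField k] [Field L] [Algebra k L]
    [Algebra.EssFiniteType k L] :
    ∃ (n : ℕ) (x : Fin n → L) (y : L) (g : (MvPolynomial (Fin n) k)[X]),
      (n : Cardinal.{u}) = Algebra.trdeg k L ∧ IsModel x y g := by
  classical
  obtain ⟨s, hs, hsep⟩ := exists_isTranscendenceBasis_and_isSeparable_of_perfectField k L
  let x : Fin s.card → L := fun i => (s.equivFin.symm i : L)
  have hx : AlgebraicIndependent k x := hs.1.comp _ s.equivFin.symm.injective
  have hrange : Set.range x = (s : Set L) := by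
    ext z
    exact ⟨fun ⟨i, hi⟩ => hi ▸ (s.equivFin.symm i).2, fun hz => ⟨s.equivFin ⟨z, hz⟩, by simp [x]⟩⟩
  have hcard : (s.card : Cardinal.{u}) = Algebra.trdeg k L := by
    rw [← hs.cardinalMk_eq_trdeg]
    simp
  obtain ⟨y, g, hM⟩ := exists_model hx fun z => by
    have hK : Algebra.IsSeparable (IntermediateField.adjoin k (Set.range x)) L := by
      rw [hrange]; exact hsep
    let e := hx.aevalEquivField
    set P := minpoly (IntermediateField.adjoin k (Set.range x)) z
    let Q : (FractionRing (MvPolynomial (Fin s.card) k))[X] := P.map e.symm.toAlgHom.toRingHom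
    obtain ⟨b, hb, hb'⟩ := IsLocalization.integerNormalization_spec
      (nonZeroDivisors (MvPolynomial (Fin s.card) k)) Q
    set p := IsLocalization.integerNormalization (nonZeroDivisors (MvPolynomial (Fin s.card) k)) Q
    let ι : FractionRing (MvPolynomial (Fin s.card) k) →+* L :=
      (algebraMap (IntermediateField.adjoin k (Set.range x)) L).comp e.toAlgHom.toRingHom
    have hι : ∀ c : MvPolynomial (Fin s.card) k, ι (algebraMap _ _ c) = MvPolynomial.aeval x c := fun c => by
      show algebraMap _ L (e (algebraMap _ _ c)) = _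
      exact hx.aevalEquivField_algebraMap_apply_coe c
    have hQ : Q.map ι = P.map (algebraMap _ L) := by
      simp only [Q, Polynomial.map_map]
      congr 1
      exact RingHom.ext fun a => congrArg (algebraMap _ L) (e.apply_symm_apply a)
    have hpev : ∀ (w : (MvPolynomial (Fin s.card) k)[X]),
        pev x z w = ((w.map (algebraMap _ (FractionRing (MvPolynomial (Fin s.card) k)))).map ι).eval z := fun w => by
      rw [Polynomial.map_map, eval_map]
      exact congrArg (fun f => eval₂ f z w) (RingHom.ext fun c => (hι c).symm)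
    have hbne : MvPolynomial.aeval x b ≠ 0 :=
      (map_ne_zero_iff _ hx).mpr (nonZeroDivisors.ne_zero hb)
    refine ⟨p, ?_, ?_⟩
    · rw [hpev, hb', ← IsScalarTower.algebraMap_smul (FractionRing (MvPolynomial (Fin s.card) k)) b Q,
        Polynomial.map_smul, hQ, eval_smul, eval_map_algebraMap, minpoly.aeval, smul_zero]
    · rw [hpev, ← derivative_map, hb', derivative_smul,
        ← IsScalarTower.algebraMap_smul (FractionRing (MvPolynomial (Fin s.card) k)) b (derivative Q),
        Polynomial.map_smul, ← derivative_map, hQ, derivative_map, eval_smul, eval_map_algebraMap, hι,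
        smul_eq_mul]
      exact mul_ne_zero hbne
        ((Algebra.IsSeparable.isSeparable _ z).aeval_derivative_ne_zero (minpoly.aeval _ z))
  exact ⟨_, x, y, g, hcard, hM⟩

/-- **Many points over the finite extensions of degree divisible by `m`.** -/
theorem exists_points_lower (k : Type u) [Field k] [Finite k] (A : Type u) [CommRing A] [IsDomain A]
    [Algebra k A] [Algebra.FiniteType k A] (r : ℕ) (hr : ringKrullDim A = r) :
    ∃ (m : ℕ) (c : ℕ), 0 < m ∧ ∀ (F : Type u) [Field F] [Algebra k F] [Finite F],
      m ∣ Module.finrank k F →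
      (Nat.card F : ℝ) ^ r * (1 - c / Real.sqrt (Nat.card F)) ≤ Nat.card (A →ₐ[k] F) := by
  classical
  let L := FractionRing A
  haveI : PerfectField k := inferInstance
  haveI : Algebra.EssFiniteType A L := Algebra.EssFiniteType.of_isLocalization L (nonZeroDivisors A)
  haveI : Algebra.EssFiniteType k L := Algebra.EssFiniteType.comp k A L
  obtain ⟨n, x, y, g, hn, hM⟩ := exists_model_perfect k L
  have hnr : n = r := by
    obtain ⟨m, hm, hmt⟩ := VarDim.exists_dim_eq_trdeg k A
    have hL : Algebra.trdeg k L = Algebra.trdeg k A := by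
      have h := lift_trdeg_add_eq k A L
      haveI : Algebra.IsAlgebraic A L := IsLocalization.isAlgebraic L (nonZeroDivisors A)
      rw [trdeg_eq_zero (R := A) (A := L), Cardinal.lift_zero, add_zero, Cardinal.lift_id,
        Cardinal.lift_id] at h
      exact h.symm
    rw [hr] at hm
    have h1 : (n : Cardinal.{u}) = m := by rw [hn, hL, hmt]
    have h2 : r = m := by exact_mod_cast hm
    have h3 : n = m := by exact_mod_cast h1
    omega
  subst hnr
  obtain ⟨B, hB, hΦ⟩ := hM.exists_homs (IsScalarTower.toAlgHom k A L) (IsFractionRing.injective A L)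
    (fun z => by
      obtain ⟨p, q, hq, rfl⟩ := IsFractionRing.div_surjective (A := A) z
      have hq' : algebraMap A L q ≠ 0 :=
        (map_ne_zero_iff _ (IsFractionRing.injective A L)).mpr (nonZeroDivisors.ne_zero hq)
      exact ⟨p, q, hq', div_mul_cancel₀ _ hq'⟩)
  let S : Subalgebra k L := Algebra.adjoin k (insert y (Set.range x))
  haveI : Algebra.FiniteType k S := (S.fg_iff_finiteType).mp
    (Subalgebra.fg_def.mpr ⟨_, (Set.finite_range x).insert y, rfl⟩)
  let xS : Fin n → S := fun i => ⟨x i, Algebra.subset_adjoin (Set.mem_insert_of_mem _ ⟨i, rfl⟩)⟩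
  let yS : S := ⟨y, Algebra.subset_adjoin (Set.mem_insert _ _)⟩
  let evS : (MvPolynomial (Fin n) k)[X] →+* S := Polynomial.eval₂RingHom (MvPolynomial.aeval xS).toRingHom yS
  have hevS : ∀ p, (evS p : L) = pev x y p := fun p => by
    show S.val (evS p) = _
    rw [show evS p = Polynomial.eval₂ (MvPolynomial.aeval xS).toRingHom yS p from rfl]
    rw [show S.val (Polynomial.eval₂ (MvPolynomial.aeval xS).toRingHom yS p) =
      S.val.toRingHom (Polynomial.eval₂ (MvPolynomial.aeval xS).toRingHom yS p) from rfl, hom_eval₂]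
    refine congrArg (fun f => eval₂ f y p) (RingHom.ext fun c => ?_)
    exact MvPolynomial.comp_aeval_apply xS S.val c
  let w : S := evS (C B * derivative g)
  have hw : (w : L) ≠ 0 := by
    rw [show (w : L) = pev x y (C B * derivative g) from hevS _, map_mul, pev_C]
    exact mul_ne_zero hB hM.sep
  haveI : IsJacobsonRing S := isJacobsonRing_of_finiteType (A := k)
  have hjac : (⊥ : Ideal S).jacobson = ⊥ :=
    IsJacobsonRing.out' _ (Ideal.isPrime_bot (α := S)).isRadical
  obtain ⟨M, hMmax, hwM⟩ : ∃ M : Ideal S, M.IsMaximal ∧ w ∉ M := by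
    by_contra! hall
    apply hw
    have : w ∈ (⊥ : Ideal S).jacobson := Ideal.mem_sInf.mpr fun {J} hJ => hall J hJ.2
    rw [hjac, Ideal.mem_bot] at this
    rw [this]; rfl
  haveI := hMmax
  letI : Field (S ⧸ M) := Ideal.Quotient.field M
  haveI : Algebra.FiniteType k (S ⧸ M) :=
    Algebra.FiniteType.of_surjective (Ideal.Quotient.mkₐ k M) (Ideal.Quotient.mkₐ_surjective k M)
  haveI : Module.Finite k (S ⧸ M) := finite_of_finite_type_of_isJacobsonRing k (S ⧸ M)
  haveI : Finite (S ⧸ M) := Module.finite_of_finite k
  let D : ℕ := max B.totalDegree (g.support.sup fun i => (g.coeff i).totalDegree)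
  obtain ⟨c, hc⟩ := hyper_card_ge.{u} n D g.natDegree
  refine ⟨Module.finrank k (S ⧸ M), c, Module.finrank_pos, fun F _ _ _ hdvd => ?_⟩
  obtain ⟨ι⟩ := FiniteField.nonempty_algHom_of_finrank_dvd (F := k) (K := S ⧸ M) (L := F) hdvd
  let χ : S →ₐ[k] F := ι.comp (Ideal.Quotient.mkₐ k M)
  let a : Fin n → F := fun i => χ (xS i)
  let g' : (MvPolynomial (Fin n) F)[X] := g.map (MvPolynomial.map (algebraMap k F))
  have hev : ∀ (p : (MvPolynomial (Fin n) k)[X]) (s : Fin n → F) (t : F),
      gEv (p.map (MvPolynomial.map (algebraMap k F))) s t = (p.map (MvPolynomial.aeval s).toRingHom).eval t :=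
    fun p s t => by
      rw [gEv, Polynomial.map_map]
      congr 2
      exact RingHom.ext fun q => by simp [MvPolynomial.eval_map, MvPolynomial.aeval_def]
  have hχ : ∀ p, χ (evS p) = (p.map (MvPolynomial.aeval a).toRingHom).eval (χ yS) := fun p => by
    rw [eval_map]
    rw [show χ (evS p) = χ.toRingHom (Polynomial.eval₂ (MvPolynomial.aeval xS).toRingHom yS p) from rfl, hom_eval₂]
    refine congrArg (fun f => eval₂ f (χ yS) p) (RingHom.ext fun c => ?_)
    exact MvPolynomial.comp_aeval_apply xS χ c
  have hroot : evS g = 0 := Subtype.ext (by rw [hevS, hM.root]; rfl)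
  have hχw : χ w ≠ 0 := fun h0 => hwM (Ideal.Quotient.eq_zero_iff_mem.mp (ι.toRingHom.injective (by
    rw [map_zero]; exact h0)))
  rw [hχ, Polynomial.map_mul, eval_mul, Polynomial.map_C, eval_C, ← derivative_map] at hχw
  have htd : ∀ p : MvPolynomial (Fin n) k,
      (MvPolynomial.map (algebraMap k F) p).totalDegree ≤ p.totalDegree := fun p =>
    Finset.sup_mono (MvPolynomial.support_map_subset _ _)
  have h := hc F g' (hM.monic.map _) natDegree_map_le (fun i => by
      rw [coeff_map]
      refine (htd _).trans ?_
      by_cases hi : i ∈ g.support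
      · exact le_trans (Finset.le_sup (f := fun i => (g.coeff i).totalDegree) hi) (le_max_right _ _)
      · simp [notMem_support_iff.mp hi])
    (MvPolynomial.map (algebraMap k F) B) ((htd B).trans (le_max_left _ _)) a (χ yS)
    (by rw [hev, ← hχ, hroot, map_zero])
    (by rw [derivative_map, hev, ← derivative_map]; exact (mul_ne_zero_iff.mp hχw).2)
    (by rw [MvPolynomial.eval_map, ← MvPolynomial.aeval_def]; exact (mul_ne_zero_iff.mp hχw).1)
  obtain ⟨Φ, hΦinj⟩ := hΦ F
  haveI : Finite (A →ₐ[k] F) := by
    obtain ⟨gens, hgens⟩ := Algebra.FiniteType.out (R := k) (A := A)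
    exact Finite.of_injective (fun φ (s : gens) => φ s) fun φ ψ h =>
      AlgHom.ext_of_adjoin_eq_top hgens fun s hs => congrFun h ⟨s, hs⟩
  refine h.trans ?_
  let e : {p : (Fin n → F) × F // gEv g' p.1 p.2 = 0 ∧
        MvPolynomial.eval p.1 (MvPolynomial.map (algebraMap k F) B) ≠ 0} → (A →ₐ[k] F) := fun p =>
    Φ ⟨p.1, by rw [← hev]; exact p.2.1, by
      rw [MvPolynomial.aeval_def, ← MvPolynomial.eval_map]; exact p.2.2⟩
  have he : Function.Injective e := fun p p' h =>
    Subtype.ext (Subtype.mk.inj (hΦinj h))
  exact_mod_cast Nat.card_le_card_of_injective e he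

end Groth.Agent.ZH85.PtLow
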