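import Groth.Agent.ZH85.PtLow.PlaneCount
import Mathlib.RingTheory.MvPolynomial.Basic
import Mathlib.Algebra.MvPolynomial.Eval

/-! Rational points of `g(x, y) = 0`, `g` monic in `y`, near a simple rational point: lines through it. -/

noncomputable section

set_option linter.unusedSectionVars false

universe u

open Polynomial

namespace Groth.Agent.ZH85.PtLow

variable {F : Type u} [Field F] {r : ℕ}

/-- Evaluation of `g(x, y)` at a point. -/
def gEv (g : (MvPolynomial (Fin r) F)[X]) (a : Fin r → F) (b : F) : F :=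
  (g.map (MvPolynomial.eval a)).eval b

theorem natDegree_eval₂_le (ℓ : Fin r → F[X]) (hℓ : ∀ i, (ℓ i).natDegree ≤ 1) (c : MvPolynomial (Fin r) F) :
    (MvPolynomial.eval₂Hom (C : F →+* F[X]) ℓ c).natDegree ≤ c.totalDegree := by
  conv_lhs => rw [MvPolynomial.as_sum c]
  rw [map_sum]
  refine natDegree_sum_le_of_forall_le _ _ fun e he => ?_
  rw [MvPolynomial.eval₂Hom_monomial]
  refine (natDegree_C_mul_le _ _).trans ?_
  refine le_trans ?_ (MvPolynomial.le_totalDegree he)
  refine (natDegree_prod_le _ _).trans (Finset.sum_le_sum fun i _ => ?_)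
  exact (natDegree_pow_le).trans (by nlinarith [hℓ i])

/-- **Points on a hypersurface through a simple rational point.** -/
theorem hyper_card_ge (r D d : ℕ) : ∃ c : ℕ, ∀ (F : Type u) [Field F] [Finite F]
    (g : (MvPolynomial (Fin r) F)[X]), g.Monic → g.natDegree ≤ d → (∀ i, (g.coeff i).totalDegree ≤ D) →
    ∀ (B : MvPolynomial (Fin r) F), B.totalDegree ≤ D →
    ∀ (a : Fin r → F) (b : F), gEv g a b = 0 → gEv g.derivative a b ≠ 0 → MvPolynomial.eval a B ≠ 0 →
    (Nat.card F : ℝ) ^ r * (1 - c / Real.sqrt (Nat.card F)) ≤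
      Nat.card {p : (Fin r → F) × F // gEv g p.1 p.2 = 0 ∧ MvPolynomial.eval p.1 B ≠ 0} := by
  obtain ⟨c, hc⟩ := plane_card_ge.{u} D d
  refine ⟨c + d, fun F _ _ g hmon hd hD B hB a b hab hsimple hBa => ?_⟩
  classical
  set q : ℝ := (Nat.card F : ℝ)
  have hq1 : 1 ≤ q := by
    show (1 : ℝ) ≤ (Nat.card F : ℝ)
    exact_mod_cast (Nat.one_le_iff_ne_zero.mpr (Nat.card_pos (α := F)).ne')
  have hsq : 1 ≤ Real.sqrt q := Real.one_le_sqrt.mpr hq1
  cases r with
  | zero =>
    have : Nonempty {p : (Fin 0 → F) × F // gEv g p.1 p.2 = 0 ∧ MvPolynomial.eval p.1 B ≠ 0} :=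
      ⟨⟨(a, b), hab, hBa⟩⟩
    have h1 : (1 : ℝ) ≤ Nat.card {p : (Fin 0 → F) × F // gEv g p.1 p.2 = 0 ∧ MvPolynomial.eval p.1 B ≠ 0} := by
      exact_mod_cast Nat.card_pos
    have : (0 : ℝ) ≤ ((c + d : ℕ) : ℝ) / Real.sqrt q := by positivity
    simp only [pow_zero, one_mul]
    linarith
  | succ s =>
    have := Fintype.ofFinite F
    let ℓ : (Fin s → F) → Fin (s + 1) → F[X] := fun v =>
      Fin.cons (C (a 0) + X) fun i => C (a i.succ) + C (v i) * X
    have hℓ : ∀ v i, (ℓ v i).natDegree ≤ 1 := fun v i => by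
      induction i using Fin.cases with
      | zero => simp [ℓ]
      | succ i =>
        simp only [ℓ, Fin.cons_succ]
        exact (natDegree_add_le _ _).trans (max_le (by simp) ((natDegree_C_mul_le _ _).trans (by simp)))
    let σ : (Fin s → F) → MvPolynomial (Fin (s + 1)) F →+* F[X] := fun v =>
      MvPolynomial.eval₂Hom C (ℓ v)
    let line : (Fin s → F) → F → Fin (s + 1) → F := fun v t j => (ℓ v j).eval t
    have hline0 : ∀ v, line v 0 = a := fun v => funext fun j => by
      induction j using Fin.cases with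
      | zero => simp [line, ℓ]
      | succ i => simp [line, ℓ]
    have hσ : ∀ v (p : (MvPolynomial (Fin (s + 1)) F)[X]) t y,
        (p.map (σ v)).evalEval t y = gEv p (line v t) y := fun v p t y => by
      rw [← map_evalRingHom_eval, Polynomial.map_map, gEv]
      congr 2
      exact MvPolynomial.ringHom_ext (fun x => by simp [σ]) fun j => by simp [σ, line]
    have hσ1 : ∀ v (p : MvPolynomial (Fin (s + 1)) F) t,
        (σ v p).eval t = MvPolynomial.eval (line v t) p := fun v p t => by
      have := hσ v (C p) t 0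
      simpa [gEv, evalEval_C] using this
    let Pts := {p : (Fin (s + 1) → F) × F // gEv g p.1 p.2 = 0 ∧ MvPolynomial.eval p.1 B ≠ 0}
    let Crv : (Fin s → F) → Type u := fun v =>
      {p : F × F // ((g.map (σ v)).evalEval p.1 p.2 = 0 ∧ (σ v B).eval p.1 ≠ 0) ∧ p.1 ≠ 0}
    have hcrv : ∀ v, q - (c + d : ℕ) * Real.sqrt q ≤ Nat.card (Crv v) := by
      intro v
      have hdeg : (g.map (σ v)).natDegree ≤ d := natDegree_map_le.trans hd
      have h := hc F (g.map (σ v)) (hmon.map _) hdeg (fun i => by
          rw [coeff_map]; exact (natDegree_eval₂_le _ (hℓ v) _).trans (hD i))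
        (σ v B) ((natDegree_eval₂_le _ (hℓ v) _).trans hB) 0 b
        (by rw [hσ, hline0, hab]) (by rw [derivative_map, hσ, hline0]; exact hsimple)
        (by rw [hσ1, hline0]; exact hBa)
      let All := {p : F × F // (g.map (σ v)).evalEval p.1 p.2 = 0 ∧ (σ v B).eval p.1 ≠ 0}
      let Z := {p : All // p.1.1 = 0}
      have hZ : Nat.card Z ≤ d := by
        let h0 : F[X] := (g.map (σ v)).map (evalRingHom 0)
        have hm0 : h0.Monic := (hmon.map _).map _
        let f : Z → h0.roots.toFinset := fun p => ⟨p.1.1.2, by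
          rw [Multiset.mem_toFinset, mem_roots hm0.ne_zero, IsRoot.def, map_evalRingHom_eval]
          exact (congrArg (fun t => (g.map (σ v)).evalEval t p.1.1.2) p.2).symm.trans p.1.2.1⟩
        have hf : Function.Injective f := fun p p' hpp' =>
          Subtype.ext (Subtype.ext (Prod.ext (p.2.trans p'.2.symm) (congrArg Subtype.val hpp')))
        refine (Nat.card_le_card_of_injective f hf).trans ?_
        rw [Nat.card_eq_fintype_card, Fintype.card_coe]
        exact (Multiset.toFinset_card_le _).trans
          ((card_roots' _).trans (natDegree_map_le.trans hdeg))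
      have hsum : Nat.card All ≤ Nat.card (Crv v) + Nat.card Z := by
        rw [← Nat.card_sum]
        refine Nat.card_le_card_of_injective
          (fun p : All => if h0 : p.1.1 = 0 then Sum.inr ⟨p, h0⟩ else Sum.inl ⟨p.1, p.2, h0⟩) fun p p' hpp' => ?_
        simp only at hpp'
        split_ifs at hpp' <;> simp at hpp'
        · exact congrArg Subtype.val hpp'
        · exact Subtype.ext (congrArg (fun z : Crv v => z.1) hpp')
      have hsum' : (Nat.card All : ℝ) ≤ Nat.card (Crv v) + d := by
        exact_mod_cast hsum.trans (Nat.add_le_add_left hZ _)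
      have h' : q - c * Real.sqrt q ≤ Nat.card All := h
      have : (d : ℝ) ≤ d * Real.sqrt q := le_mul_of_one_le_right (Nat.cast_nonneg _) hsq
      push_cast
      linarith
    let emb : (Σ v, Crv v) → Pts := fun p => ⟨(line p.1 p.2.1.1, p.2.1.2),
      by rw [← hσ]; exact p.2.2.1.1, by rw [← hσ1]; exact p.2.2.1.2⟩
    have hemb : Function.Injective emb := by
      rintro ⟨v, ⟨⟨t, y⟩, h1⟩⟩ ⟨v', ⟨⟨t', y'⟩, h1'⟩⟩ heq
      have hl : line v t = line v' t' := congrArg (fun p : Pts => p.1.1) heq
      have hy : y = y' := congrArg (fun p : Pts => p.1.2) heq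
      have ht : t = t' := by simpa [line, ℓ] using congrFun hl 0
      subst ht
      have hv : v = v' := funext fun i => by
        have := congrFun hl i.succ
        simp [line, ℓ] at this
        exact this.resolve_right h1.2
      subst hv
      subst hy
      rfl
    have hcard := Nat.card_le_card_of_injective emb hemb
    rw [Nat.card_sigma] at hcard
    have hcast : (∑ v : Fin s → F, (Nat.card (Crv v) : ℝ)) ≤ Nat.card Pts := by exact_mod_cast hcard
    refine le_trans (le_trans (le_of_eq ?_) (Finset.sum_le_sum fun v _ => hcrv v)) hcast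
    rw [Finset.sum_const, Finset.card_univ, Fintype.card_fun, Fintype.card_fin, nsmul_eq_mul,
      ← Nat.card_eq_fintype_card]
    push_cast
    have key : q * (((c : ℝ) + d) / Real.sqrt q) = ((c : ℝ) + d) * Real.sqrt q := by
      rw [mul_div_left_comm, Real.div_sqrt]
    rw [pow_succ]
    linear_combination (-(q ^ s)) * key

end Groth.Agent.ZH85.PtLow
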