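import Groth.Agent.ZetaLib.EulerProduct
import Mathlib.NumberTheory.NumberField.DedekindZeta
import Mathlib.RingTheory.Ideal.Norm.AbsNorm
import Mathlib.FieldTheory.Finite.Basic
import Mathlib.Data.Finsupp.Multiset

/-! The primes of degree one of a number field have divergent sum of inverse norms. -/

noncomputable section

set_option linter.unusedSectionVars false
set_option linter.style.haveILetI false

open NumberField Filter Topology Groth.Agent.ZetaLib UniqueFactorizationMonoid

namespace Groth.Agent.ZH85.PtLow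

universe u

variable (K : Type u) [Field K] [NumberField K]

/-- The nonzero primes. -/
abbrev Pr : Type u := {P : Ideal (𝓞 K) // P.IsPrime ∧ P ≠ ⊥}

theorem two_le_absNorm (P : Pr K) : 2 ≤ Ideal.absNorm P.1 := by
  have h0 : Ideal.absNorm P.1 ≠ 0 := fun h => P.2.2 (Ideal.absNorm_eq_zero_iff.mp h)
  have h1 : Ideal.absNorm P.1 ≠ 1 := fun h => P.2.1.ne_top (Ideal.absNorm_eq_one_iff.mp h)
  omega

theorem not_summable_primes : ¬ Summable fun P : Pr K => ((Ideal.absNorm P.1 : ℝ))⁻¹ := by
  classical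
  intro hs
  let z : Pr K → ℝ := fun P => ((Ideal.absNorm P.1 : ℝ))⁻¹
  have hmon : Summable (mon z) := summable_mon z (1 / 2) (by norm_num) (fun P => by positivity)
    (fun P => by
      show ((Ideal.absNorm P.1 : ℝ))⁻¹ ≤ 1 / 2
      rw [one_div]
      exact inv_anti₀ two_pos (by exact_mod_cast two_le_absNorm K P)) hs
  have hfac : ∀ I : Ideal (𝓞 K), ∀ P ∈ normalizedFactors I, P.IsPrime ∧ P ≠ ⊥ := fun I P hP => by
    have hp := prime_of_normalized_factor P hP
    exact ⟨(Ideal.prime_iff_isPrime hp.ne_zero).mp hp, hp.ne_zero⟩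
  let β : Ideal (𝓞 K) → (Pr K →₀ ℕ) := fun I =>
    ((normalizedFactors I).pmap Subtype.mk (hfac I)).toFinsupp
  have hβ : ∀ I : Ideal (𝓞 K), I ≠ ⊥ → mon z (β I) = ((Ideal.absNorm I : ℝ))⁻¹ := fun I hI => by
    have h1 : mon z (β I) = (((normalizedFactors I).pmap Subtype.mk (hfac I)).map z).prod := by
      rw [Finset.prod_multiset_map_count, mon, Finsupp.prod, Multiset.toFinsupp_support]
      exact Finset.prod_congr rfl fun P _ => by rw [Multiset.toFinsupp_apply]
    rw [h1, Multiset.map_pmap]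
    conv_rhs => rw [← (prod_normalizedFactors_eq hI).trans (normalize_eq I), map_multiset_prod,
      Nat.cast_multiset_prod, Multiset.map_map]
    rw [← Multiset.prod_map_inv, Multiset.pmap_eq_map (p := fun P : Ideal (𝓞 K) => P.IsPrime ∧ P ≠ ⊥)
      (f := fun P => ((Ideal.absNorm P : ℝ))⁻¹)]
    rfl
  have hinj : Set.InjOn β {I | I ≠ ⊥} := fun I hI J hJ h => by
    have h' := congrArg (Multiset.map Subtype.val) (Multiset.toFinsupp.injective h)
    simp only [Multiset.map_pmap, Multiset.pmap_eq_map, Multiset.map_id'] at h'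
    rw [← (prod_normalizedFactors_eq hI).trans (normalize_eq I),
      ← (prod_normalizedFactors_eq hJ).trans (normalize_eq J), h']
  set C := ∑' β, mon z β
  have hbound : ∀ s : ℝ, 1 < s → ‖dedekindZeta K (s : ℂ)‖ ≤ C := fun s hs1 => by
    set a : ℕ → ℂ := fun n => Nat.card {I : Ideal (𝓞 K) // Ideal.absNorm I = n}
    have hpart : ∀ u : Finset ℕ, ∑ n ∈ u, ‖LSeries.term a (s : ℂ) n‖ ≤ C := fun u => by
      have hfin : ∀ n, Set.Finite {I : Ideal (𝓞 K) | Ideal.absNorm I = n} := fun n =>
        Ideal.finite_setOfPred_absNorm_eq n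
      let u' := u.filter (· ≠ 0)
      let T : Finset (Ideal (𝓞 K)) := u'.biUnion fun n => (hfin n).toFinset
      have hT : ∀ I ∈ T, I ≠ ⊥ := fun I hI hbot => by
        obtain ⟨n, hn, hn'⟩ := Finset.mem_biUnion.mp hI
        rw [Set.Finite.mem_toFinset, Set.mem_setOf_eq] at hn'
        exact (Finset.mem_filter.mp hn).2 (by rw [← hn', hbot, Ideal.absNorm_bot])
      calc ∑ n ∈ u, ‖LSeries.term a (s : ℂ) n‖ = ∑ n ∈ u', ‖LSeries.term a (s : ℂ) n‖ := by
            refine (Finset.sum_filter_of_ne fun n _ hn => ?_).symm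
            rintro rfl
            simp at hn
        _ ≤ ∑ n ∈ u', ∑ I ∈ (hfin n).toFinset, mon z (β I) := Finset.sum_le_sum fun n hn => by
            have hn0 : n ≠ 0 := (Finset.mem_filter.mp hn).2
            rw [LSeries.norm_term_eq, if_neg hn0, Complex.norm_natCast, Complex.ofReal_re,
              Finset.sum_congr rfl (g := fun _ => ((n : ℝ))⁻¹) (fun I hI => by
                have hI' : Ideal.absNorm I = n := by simpa using hI
                rw [hβ I (fun hb => hn0 (by rw [← hI', hb, Ideal.absNorm_bot])), hI']),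
              Finset.sum_const, nsmul_eq_mul, ← Set.ncard_eq_toFinset_card _ (hfin n), ← Nat.card_coe_set_eq,
              div_eq_mul_inv]
            exact mul_le_mul_of_nonneg_left (inv_anti₀ (by positivity)
              (Real.self_le_rpow_of_one_le (by exact_mod_cast Nat.one_le_iff_ne_zero.mpr hn0) hs1.le))
              (Nat.cast_nonneg _)
        _ = ∑ I ∈ T, mon z (β I) := by
            rw [Finset.sum_biUnion]
            intro n _ n' _ hne
            rw [Function.onFun, Finset.disjoint_left]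
            intro I h1 h2
            simp only [Set.Finite.mem_toFinset, Set.mem_setOf_eq] at h1 h2
            exact hne (h1.symm.trans h2)
        _ = ∑ b ∈ T.image β, mon z b := by
            rw [Finset.sum_image fun I hI J hJ h => hinj (hT I hI) (hT J hJ) h]
        _ ≤ C := hmon.sum_le_tsum _ fun b _ => Finset.prod_nonneg fun P _ => pow_nonneg (by positivity) _
    have hsum : Summable fun n => ‖LSeries.term a (s : ℂ) n‖ := summable_of_sum_le (fun n => norm_nonneg _) hpart
    exact (norm_tsum_le_tsum_norm hsum).trans (hsum.tsum_le_of_sum_le hpart)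
  have h0 : Tendsto (fun s : ℝ => ((s : ℂ) - 1) * dedekindZeta K s) (𝓝[>] 1) (𝓝 0) := by
    refine squeeze_zero_norm' (a := fun s : ℝ => (s - 1) * C) ?_ ?_
    · filter_upwards [self_mem_nhdsWithin] with s hs1
      rw [norm_mul, ← Complex.ofReal_one, ← Complex.ofReal_sub, Complex.norm_real, Real.norm_eq_abs,
        abs_of_pos (sub_pos.mpr hs1)]
      exact mul_le_mul_of_nonneg_left (hbound s hs1) (sub_pos.mpr hs1).le
    · have : Tendsto (fun s : ℝ => (s - 1) * C) (𝓝 1) (𝓝 ((1 - 1) * C)) :=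
        ((continuous_id.sub continuous_const).mul continuous_const).tendsto 1
      rw [sub_self, zero_mul] at this
      exact this.mono_left nhdsWithin_le_nhds
  have h1 := tendsto_nhds_unique h0 (tendsto_sub_one_mul_dedekindZeta_nhdsGT K)
  exact dedekindZeta_residue_ne_zero K (by exact_mod_cast h1.symm)

/-- At most `[K : ℚ]` primes have a given prime norm. -/
theorem finite_fibre (N n : ℕ) :
    Finite {P : {P : Pr K // (Ideal.absNorm P.1).Prime ∧ ¬ Ideal.absNorm P.1 ∣ N} // Ideal.absNorm P.1.1 = n} ∧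
      Nat.card {P : {P : Pr K // (Ideal.absNorm P.1).Prime ∧ ¬ Ideal.absNorm P.1 ∣ N} // Ideal.absNorm P.1.1 = n} ≤
        Module.finrank ℤ (𝓞 K) := by
  classical
  set T := {P : {P : Pr K // (Ideal.absNorm P.1).Prime ∧ ¬ Ideal.absNorm P.1 ∣ N} // Ideal.absNorm P.1.1 = n}
  have hbound : ∀ S : Finset T, S.card ≤ Module.finrank ℤ (𝓞 K) := fun S => by
    rcases S.eq_empty_or_nonempty with rfl | ⟨P₀, hP₀⟩
    · simp
    have hn : n.Prime := P₀.2 ▸ P₀.1.2.1
    let S' : Finset (Ideal (𝓞 K)) := S.image fun P => P.1.1.1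
    have hS' : S'.card = S.card := Finset.card_image_of_injective _ fun P Q h =>
      Subtype.ext (Subtype.ext (Subtype.ext h))
    have hdvd : ∏ Q ∈ S', Q ∣ Ideal.span {(n : 𝓞 K)} := by
      refine Finset.prod_primes_dvd _ (fun Q hQ => ?_) fun Q hQ => ?_
      · obtain ⟨P, -, rfl⟩ := Finset.mem_image.mp hQ
        exact Ideal.prime_of_isPrime P.1.1.2.2 P.1.1.2.1
      · obtain ⟨P, -, rfl⟩ := Finset.mem_image.mp hQ
        rw [Ideal.dvd_iff_le, Ideal.span_singleton_le_iff_mem]
        have h := Ideal.absNorm_mem P.1.1.1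
        rwa [P.2] at h
    have h2 := map_dvd Ideal.absNorm hdvd
    rw [map_prod, Ideal.absNorm_span_singleton, ← map_natCast (algebraMap ℤ (𝓞 K)),
      Algebra.norm_algebraMap, Int.natAbs_pow, Int.natAbs_natCast] at h2
    have h3 : n ^ S'.card = ∏ Q ∈ S', Ideal.absNorm Q := by
      rw [← Finset.prod_const]
      refine Finset.prod_congr rfl fun Q hQ => ?_
      obtain ⟨P, -, rfl⟩ := Finset.mem_image.mp hQ
      exact P.2.symm
    rw [← hS']
    exact (Nat.pow_dvd_pow_iff_le_right hn.one_lt).mp (h3 ▸ h2)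
  haveI : Finite T := by
    by_contra hinf
    haveI : Infinite T := not_finite_iff_infinite.mp hinf
    obtain ⟨S, hS⟩ := Infinite.exists_subset_card_eq T (Module.finrank ℤ (𝓞 K) + 1)
    have := hbound S
    omega
  haveI := Fintype.ofFinite T
  exact ⟨inferInstance, by rw [Nat.card_eq_fintype_card, ← Finset.card_univ]; exact hbound _⟩

/-- **The degree one primes outside a finite set.** -/
theorem not_summable_degree_one (N : ℕ) (hN : N ≠ 0) :
    ¬ Summable fun P : {P : Pr K // (Ideal.absNorm P.1).Prime ∧ ¬ Ideal.absNorm P.1 ∣ N} =>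
      ((Ideal.absNorm P.1.1 : ℝ))⁻¹ := by
  classical
  intro hs
  have hpow : ∀ P : Pr K, ∃ p f : ℕ, p.Prime ∧ 0 < f ∧ Ideal.absNorm P.1 = p ^ f ∧ (p : 𝓞 K) ∈ P.1 := fun P => by
    haveI := P.2.1.isMaximal P.2.2
    letI := Ideal.Quotient.field P.1
    haveI : Finite (𝓞 K ⧸ P.1) := Nat.finite_of_card_ne_zero (by
      have := two_le_absNorm K P
      rw [Ideal.absNorm_apply, Submodule.cardQuot_apply] at this
      intro h0
      omega)
    have := Fintype.ofFinite (𝓞 K ⧸ P.1)
    obtain ⟨p, hp⟩ := CharP.exists (𝓞 K ⧸ P.1)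
    obtain ⟨f, hprime, hf⟩ := FiniteField.card (𝓞 K ⧸ P.1) p
    refine ⟨p, f, hprime, f.pos, ?_, ?_⟩
    · rw [Ideal.absNorm_apply, Submodule.cardQuot_apply, Nat.card_eq_fintype_card, hf]
    · rw [← Ideal.Quotient.eq_zero_iff_mem, map_natCast, CharP.cast_eq_zero]
  choose p f hp hf hcard hmem using hpow
  set d := Module.finrank ℤ (𝓞 K)
  have hfib : ∀ n : ℕ, Finite {P : Pr K // p P = n} ∧ (Nat.card {P : Pr K // p P = n} ≤ d) := fun n => by
    rcases isEmpty_or_nonempty {P : Pr K // p P = n} with he | ⟨⟨P₀, hP₀⟩⟩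
    · exact ⟨inferInstance, by rw [Nat.card_of_isEmpty]; exact Nat.zero_le _⟩
    have hn : n.Prime := hP₀ ▸ hp P₀
    have hbound : ∀ S : Finset {P : Pr K // p P = n}, S.card ≤ d := fun S => by
      let S' : Finset (Ideal (𝓞 K)) := S.image fun P => P.1.1
      have hS' : S'.card = S.card :=
        Finset.card_image_of_injective _ (Subtype.val_injective.comp Subtype.val_injective)
      have hdvd : ∏ Q ∈ S', Q ∣ Ideal.span {(n : 𝓞 K)} := by
        refine Finset.prod_primes_dvd _ (fun Q hQ => ?_) fun Q hQ => ?_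
        · obtain ⟨P, -, rfl⟩ := Finset.mem_image.mp hQ
          exact Ideal.prime_of_isPrime P.1.2.2 P.1.2.1
        · obtain ⟨P, -, rfl⟩ := Finset.mem_image.mp hQ
          rw [Ideal.dvd_iff_le, Ideal.span_singleton_le_iff_mem]
          have h := hmem P.1
          rw [P.2] at h
          exact h
      have h2 := map_dvd Ideal.absNorm hdvd
      rw [map_prod, Ideal.absNorm_span_singleton, ← map_natCast (algebraMap ℤ (𝓞 K)),
        Algebra.norm_algebraMap, Int.natAbs_pow, Int.natAbs_natCast] at h2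
      have h3 : n ^ S'.card ∣ ∏ Q ∈ S', Ideal.absNorm Q := by
        rw [← Finset.prod_const]
        refine Finset.prod_dvd_prod_of_dvd _ _ fun Q hQ => ?_
        obtain ⟨P, -, rfl⟩ := Finset.mem_image.mp hQ
        rw [hcard, P.2]
        exact dvd_pow_self _ (hf P.1).ne'
      rw [← hS']
      exact (Nat.pow_dvd_pow_iff_le_right hn.one_lt).mp (h3.trans h2)
    haveI : Finite {P : Pr K // p P = n} := by
      by_contra hinf
      haveI : Infinite {P : Pr K // p P = n} := not_finite_iff_infinite.mp hinf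
      obtain ⟨S, hS⟩ := Infinite.exists_subset_card_eq {P : Pr K // p P = n} (d + 1)
      have := hbound S
      omega
    haveI := Fintype.ofFinite {P : Pr K // p P = n}
    exact ⟨inferInstance, by rw [Nat.card_eq_fintype_card, ← Finset.card_univ]; exact hbound _⟩
  have hsq : Summable fun P : Pr K => ((p P : ℝ) ^ 2)⁻¹ := by
    rw [← (Equiv.sigmaFiberEquiv p).summable_iff]
    refine (summable_sigma_of_nonneg fun x => inv_nonneg.mpr (sq_nonneg _)).2 ⟨fun n => ?_, ?_⟩
    · haveI := (hfib n).1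
      exact Summable.of_finite
    · refine ((Real.summable_nat_pow_inv.mpr one_lt_two).mul_left (d : ℝ)).of_nonneg_of_le
        (fun n => tsum_nonneg fun x => inv_nonneg.mpr (sq_nonneg _)) fun n => ?_
      haveI := (hfib n).1
      have hval : ∀ x : {P : Pr K // p P = n},
          ((p ((Equiv.sigmaFiberEquiv p) ⟨n, x⟩) : ℝ) ^ 2)⁻¹ = ((n : ℝ) ^ 2)⁻¹ := fun x => by
        rw [Equiv.sigmaFiberEquiv_apply, x.2]
      refine ((tsum_congr hval).trans (tsum_const _)).trans_le ?_
      rw [nsmul_eq_mul]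
      exact mul_le_mul_of_nonneg_right (by exact_mod_cast (hfib n).2) (by positivity)
  refine not_summable_primes K ?_
  let G : Pr K → ℝ := fun P =>
    if (Ideal.absNorm P.1).Prime ∧ ¬ Ideal.absNorm P.1 ∣ N then ((Ideal.absNorm P.1 : ℝ))⁻¹ else 0
  have hG : Summable G := by
    refine (Function.Injective.summable_iff (g := Subtype.val (p := fun P : Pr K => (Ideal.absNorm P.1).Prime ∧ ¬ Ideal.absNorm P.1 ∣ N))
      Subtype.val_injective fun P hP => ?_).mp (hs.congr fun P => ?_)
    · exact if_neg fun h => hP ⟨⟨P, h⟩, rfl⟩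
    · exact (if_pos P.2).symm
  refine (hG.add (hsq.mul_left ((N : ℝ) + 1))).of_nonneg_of_le (fun P => by positivity) fun P => ?_
  have hp0 : (0 : ℝ) < p P := by exact_mod_cast (hp P).pos
  have h1 : (0 : ℝ) ≤ ((N : ℝ) + 1) * ((p P : ℝ) ^ 2)⁻¹ := by positivity
  by_cases hgood : (Ideal.absNorm P.1).Prime ∧ ¬ Ideal.absNorm P.1 ∣ N
  · simp only [G, if_pos hgood]; linarith
  simp only [G, if_neg hgood, zero_add]
  rcases Nat.lt_or_ge (f P) 2 with hf2 | hf2
  · have hf1 : f P = 1 := by have := hf P; omega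
    rw [hcard, hf1, pow_one] at hgood
    have hdvd : p P ∣ N := by_contra fun h => hgood ⟨hp P, h⟩
    have hle : (p P : ℝ) ≤ N := by exact_mod_cast Nat.le_of_dvd (Nat.pos_of_ne_zero hN) hdvd
    rw [hcard, hf1, pow_one, ← div_eq_mul_inv, le_div_iff₀ (by positivity), pow_two, inv_mul_cancel_left₀ hp0.ne']
    linarith
  · rw [hcard]
    push_cast
    calc ((p P : ℝ) ^ f P)⁻¹ ≤ ((p P : ℝ) ^ 2)⁻¹ :=
          inv_anti₀ (by positivity) (pow_le_pow_right₀ (by exact_mod_cast (hp P).one_lt.le) hf2)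
      _ ≤ ((N : ℝ) + 1) * ((p P : ℝ) ^ 2)⁻¹ :=
          le_mul_of_one_le_left (by positivity) (by linarith [Nat.cast_nonneg (α := ℝ) N])

end Groth.Agent.ZH85.PtLow
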