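import Groth.Agent.ZH85.PtLow.FiniteField
import Groth.Agent.ZetaLib.EulerProduct
import Groth.Agent.ZetaLib.PointsOfExt
import Groth.Agent.VarDim.Top
import Groth.Agent.VarDim.Local
import Mathlib.AlgebraicGeometry.Morphisms.Finite
import Mathlib.RingTheory.LocalRing.ResidueField.Ideal

/-! From points of an affine integral piece to closed points and the abscissa of convergence. -/

noncomputable section

set_option linter.unusedSectionVars false
set_option linter.style.haveILetI false

universe u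

open CategoryTheory AlgebraicGeometry Groth.Agent.ZetaLib Filter Topology

namespace Groth.Agent.ZH85.PtLow

variable {X : Scheme.{u}}

/-- An affine open with an integral closed subscheme of full dimension. -/
theorem exists_affine_prime (r : ℕ) (hr : topologicalKrullDim X = r) :
    ∃ (U : X.Opens) (_ : IsAffineOpen U) (P : Ideal Γ(X, U)), P.IsPrime ∧
      ringKrullDim (Γ(X, U) ⧸ P) = r := by
  letI := specializationOrder X
  have hdim : Order.krullDim X = r :=
    ((Order.krullDim_eq_of_orderIso (irreducibleSetEquivPoints (α := X))).symm.trans hr)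
  obtain ⟨l, hl⟩ := Order.le_krullDim_iff.mp hdim.ge
  obtain ⟨U, hU, hx, -⟩ := exists_isAffineOpen_mem_and_subset (x := l.head) (U := ⊤) trivial
  have hmem : ∀ i, l i ∈ U := fun i => (show l i ⤳ l.head from LTSeries.head_le l i).mem_open U.2 hx
  choose p hp using fun i => VarDim.exists_fromSpec_eq hU (hmem i)
  have hle : ∀ i j, l i ≤ l j ↔ p j ≤ p i := fun i j => by
    rw [← VarDim.fromSpec_specializes_iff hU, hp, hp]
    rfl
  refine ⟨U, hU, (p (Fin.last _)).asIdeal, (p (Fin.last _)).isPrime, le_antisymm ?_ ?_⟩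
  · calc ringKrullDim (Γ(X, U) ⧸ (p (Fin.last _)).asIdeal) ≤ ringKrullDim Γ(X, U) :=
          ringKrullDim_quotient_le _
      _ = topologicalKrullDim (PrimeSpectrum Γ(X, U)) :=
          (PrimeSpectrum.topologicalKrullDim_eq_ringKrullDim _).symm
      _ ≤ topologicalKrullDim X := hU.fromSpec.isOpenEmbedding.isInducing.topologicalKrullDim_le
      _ = r := hr
  · rw [ringKrullDim_quotient, ← hl]
    let l' : LTSeries (PrimeSpectrum.zeroLocus ((p (Fin.last _)).asIdeal : Set Γ(X, U))) :=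
      LTSeries.mk l.length (fun i => ⟨p i.rev, (PrimeSpectrum.mem_zeroLocus _ _).2
        (show p (Fin.last _) ≤ p i.rev from (hle _ _).1 (l.monotone (Fin.le_last _)))⟩) fun i j hij => by
        show p i.rev < p j.rev
        have := l.strictMono (Fin.rev_lt_rev.mpr hij)
        rw [lt_iff_le_not_ge] at this ⊢
        rwa [← hle, ← hle]
    exact le_iSup_of_le l' le_rfl

variable (f : X ⟶ Spec (CommRingCat.of (ULift.{u} ℤ))) [LocallyOfFiniteType f] [QuasiCompact f]

include f in
/-- Summability of the Dirichlet series gives summability over closed points. -/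
theorem summable_ptNorm_of_lseries (r : ℕ) (hr : topologicalKrullDim X ≤ r) {s : ℝ}
    (h : LSeriesSummable (Zeta.arithCoeff X) (s : ℂ)) :
    Summable fun x : ClosedPt X => (ptNorm x : ℝ) ^ (-s) := by
  classical
  have hnn : ∀ x : ClosedPt X, (0 : ℝ) ≤ (ptNorm x : ℝ) ^ (-s) := fun x =>
    Real.rpow_nonneg (Nat.cast_nonneg _) _
  have h2 : ∀ x : ClosedPt X, 2 ≤ ptNorm x := two_le_ptNorm f
  -- finiteness of the sets of cycles of given norm
  have hσ : (r : ℝ) < (r : ℝ) + 1 := by linarith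
  have hmon : Summable (mon fun x : ClosedPt X => (ptNorm x : ℝ) ^ (-((r : ℝ) + 1))) :=
    summable_mon _ ((2 : ℝ) ^ (-((r : ℝ) + 1)))
      (Real.rpow_lt_one_of_one_lt_of_neg one_lt_two (by linarith [Nat.cast_nonneg (α := ℝ) r]))
      (fun x => Real.rpow_nonneg (Nat.cast_nonneg _) _)
      (fun x => Real.rpow_le_rpow_of_nonpos two_pos (by exact_mod_cast h2 x)
        (by linarith [Nat.cast_nonneg (α := ℝ) r]))
      (summable_ptNorm f r hr hσ)
  have hfin : ∀ n : ℕ, n ≠ 0 → Finite {β : ClosedPt X →₀ ℕ // mon ptNorm β = n} := fun n hn => by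
    refine Finite.of_summable_const (b := (n : ℝ) ^ (-((r : ℝ) + 1)))
      (Real.rpow_pos_of_pos (by exact_mod_cast Nat.pos_of_ne_zero hn) _) ?_
    refine (hmon.subtype _).congr fun β => ?_
    obtain ⟨β, hβ⟩ := β
    show mon (fun x : ClosedPt X => (ptNorm x : ℝ) ^ (-((r : ℝ) + 1))) β = _
    subst hβ
    simp only [mon, Finsupp.prod, Nat.cast_prod, Nat.cast_pow]
    rw [← Real.finsetProd_rpow _ _ fun x _ => pow_nonneg (Nat.cast_nonneg _) _]
    exact Finset.prod_congr rfl fun x _ => by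
      rw [← Real.rpow_natCast, ← Real.rpow_mul (Nat.cast_nonneg _), mul_comm,
        Real.rpow_mul (Nat.cast_nonneg _), Real.rpow_natCast]
  have hn : Summable fun n : ℕ => ‖LSeries.term (Zeta.arithCoeff X) (s : ℂ) n‖ := h.norm
  refine summable_of_sum_le (c := ∑' n, ‖LSeries.term (Zeta.arithCoeff X) (s : ℂ) n‖) hnn fun u => ?_
  refine le_trans ?_ (hn.sum_le_tsum (u.image ptNorm) fun n _ => norm_nonneg _)
  rw [← Finset.sum_fiberwise_of_maps_to (t := u.image ptNorm) (g := ptNorm) fun x hx =>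
    Finset.mem_image_of_mem _ hx]
  refine Finset.sum_le_sum fun n hn' => ?_
  obtain ⟨x₀, -, rfl⟩ := Finset.mem_image.1 hn'
  have hn0 : ptNorm x₀ ≠ 0 := by have := h2 x₀; omega
  rw [Finset.sum_congr rfl (g := fun _ => (ptNorm x₀ : ℝ) ^ (-s)) fun x hx => by
      rw [(Finset.mem_filter.1 hx).2], Finset.sum_const, nsmul_eq_mul,
    LSeries.norm_term_eq, if_neg hn0, Complex.ofReal_re, Real.rpow_neg (Nat.cast_nonneg _),
    ← div_eq_mul_inv]
  refine div_le_div_of_nonneg_right ?_ (Real.rpow_nonneg (Nat.cast_nonneg _) _)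
  rw [Zeta.arithCoeff, Complex.norm_natCast, Nat.cast_le, Zeta.cycleNormCount,
    Nat.card_congr (cycleEquiv X _)]
  haveI := hfin _ hn0
  refine le_trans (le_of_eq (Fintype.card_coe _).symm) ?_
  rw [← Nat.card_eq_fintype_card]
  refine Nat.card_le_card_of_injective (fun x => ⟨Finsupp.single x.1 1, by
    rw [mon_single, pow_one, (Finset.mem_filter.1 x.2).2]⟩) fun x y hxy => ?_
  exact Subtype.ext ((Finsupp.single_left_inj one_ne_zero).1 (congrArg Subtype.val hxy))

section Piece

variable {U : X.Opens} (hU : IsAffineOpen U) (P : Ideal Γ(X, U))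

/-- The closed subscheme of an affine open. -/
def piece : Spec (CommRingCat.of (Γ(X, U) ⧸ P)) ⟶ X :=
  Spec.map (CommRingCat.ofHom (Ideal.Quotient.mk P)) ≫ hU.fromSpec

theorem card_spec_residueField (R : Type u) [CommRing R] (M : MaximalSpectrum R) :
    Nat.card ((Spec (CommRingCat.of R)).residueField (⟨M.asIdeal, M.isMaximal.isPrime⟩ : PrimeSpectrum R)) =
      Nat.card (R ⧸ M.asIdeal) :=
  (Nat.card_congr (Scheme.Spec.residueFieldIso (CommRingCat.of R) _).commRingCatIsoToRingEquiv.toEquiv).trans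
    (Nat.card_eq_of_bijective _ M.asIdeal.bijective_algebraMap_quotient_residueField).symm

include f hU in
/-- Maximal ideals of the piece give closed points of the same norm. -/
theorem exists_closedPt_map : ∃ e : MaximalSpectrum (Γ(X, U) ⧸ P) → ClosedPt X,
    Function.Injective e ∧ ∀ M, ptNorm (e M) = Nat.card ((Γ(X, U) ⧸ P) ⧸ M.asIdeal) := by
  haveI : IsClosedImmersion (Spec.map (CommRingCat.ofHom (Ideal.Quotient.mk P))) :=
    IsClosedImmersion.spec_of_surjective _ Ideal.Quotient.mk_surjective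
  haveI : IsPreimmersion (piece hU P) := by unfold piece; infer_instance
  haveI : LocallyOfFiniteType (piece hU P) := by unfold piece; infer_instance
  haveI := isJacobsonRing_int
  haveI : IsJacobsonRing (ULift.{u} ℤ) := isJacobsonRing_of_surjective
    ⟨(ULift.ringEquiv (R := ℤ)).symm.toRingHom, (ULift.ringEquiv (R := ℤ)).symm.surjective⟩
  haveI : JacobsonSpace (Spec (CommRingCat.of (ULift.{u} ℤ))) :=
    PrimeSpectrum.isJacobsonRing_iff_jacobsonSpace.mp ‹_›
  haveI : JacobsonSpace X := LocallyOfFiniteType.jacobsonSpace f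
  let pt : MaximalSpectrum (Γ(X, U) ⧸ P) → ↥(Spec (CommRingCat.of (Γ(X, U) ⧸ P))) := fun M =>
    (⟨M.asIdeal, M.isMaximal.isPrime⟩ : PrimeSpectrum (Γ(X, U) ⧸ P))
  have hclosed : ∀ M, IsClosed ({pt M} : Set _) := fun M =>
    (PrimeSpectrum.isClosed_singleton_iff_isMaximal _).2 M.isMaximal
  refine ⟨fun M => ⟨piece hU P (pt M), (piece hU P).closePoints_subset_preimage_closedPoints (hclosed M)⟩,
    fun M N h => ?_, fun M => ?_⟩
  · have := (piece hU P).isEmbedding.injective (congrArg (fun z : ClosedPt X => z.1) h)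
    exact MaximalSpectrum.ext (congrArg PrimeSpectrum.asIdeal this)
  · refine Eq.trans ?_ (card_spec_residueField _ M)
    refine Nat.card_eq_of_bijective ((piece hU P).residueFieldMap (pt M)).hom ⟨RingHom.injective _, ?_⟩
    intro b
    obtain ⟨b, rfl⟩ := IsLocalRing.residue_surjective b
    obtain ⟨a, ha⟩ := (piece hU P).stalkMap_surjective (pt M) b
    refine ⟨IsLocalRing.residue _ a, ?_⟩
    rw [← ha]
    rfl

end Piece

/-- A lower bound for a sum over closed points, from homomorphisms into a finite field. -/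
theorem sum_ge_of_homs {R A : Type u} [CommRing R] [CommRing A] [Algebra R A] (F : Type u) [Field F]
    [Algebra R F] [Finite F] [Finite (A →ₐ[R] F)] (ν : ℕ)
    (hν : ∀ M : MaximalSpectrum A,
      Nat.card {φ : A →ₐ[R] F // RingHom.ker φ.toRingHom = M.asIdeal} ≤ ν)
    {σ : ℝ} (hσ : 0 ≤ σ) :
    ∃ S : Finset (MaximalSpectrum A), (∀ M ∈ S, Nat.card (A ⧸ M.asIdeal) ≤ Nat.card F ∧ 0 < Nat.card (A ⧸ M.asIdeal)) ∧
      (∀ M ∈ S, ∃ φ : A →ₐ[R] F, RingHom.ker φ.toRingHom = M.asIdeal) ∧
      (Nat.card (A →ₐ[R] F) : ℝ) * (Nat.card F : ℝ) ^ (-σ) ≤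
        ν * ∑ M ∈ S, (Nat.card (A ⧸ M.asIdeal) : ℝ) ^ (-σ) := by
  classical
  have := Fintype.ofFinite (A →ₐ[R] F)
  have hmax : ∀ φ : A →ₐ[R] F, (RingHom.ker φ.toRingHom).IsMaximal := fun φ =>
    Ideal.Quotient.maximal_of_isField _ (by
      haveI : Finite (A ⧸ RingHom.ker φ.toRingHom) :=
        Finite.of_injective _ (RingHom.kerLift_injective φ.toRingHom)
      haveI : (RingHom.ker φ.toRingHom).IsPrime := RingHom.ker_isPrime _
      exact Finite.isField_of_domain _)
  let K : (A →ₐ[R] F) → MaximalSpectrum A := fun φ => ⟨_, hmax φ⟩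
  let S := Finset.univ.image K
  have hS : ∀ M ∈ S, Nat.card (A ⧸ M.asIdeal) ≤ Nat.card F ∧ 0 < Nat.card (A ⧸ M.asIdeal) := fun M hM => by
    obtain ⟨φ, -, rfl⟩ := Finset.mem_image.1 hM
    haveI : Finite (A ⧸ (K φ).asIdeal) :=
      Finite.of_injective _ (RingHom.kerLift_injective φ.toRingHom)
    exact ⟨Nat.card_le_card_of_injective _ (RingHom.kerLift_injective φ.toRingHom), Nat.card_pos⟩
  refine ⟨S, hS, fun M hM => ?_, ?_⟩
  · obtain ⟨φ, -, rfl⟩ := Finset.mem_image.1 hM
    exact ⟨φ, rfl⟩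
  have hcount : Nat.card (A →ₐ[R] F) ≤ S.card * ν := by
    rw [Nat.card_eq_fintype_card, ← Finset.card_univ]
    refine le_trans (Finset.card_le_mul_card_image (f := K) Finset.univ ν fun M _ => ?_) (le_of_eq (mul_comm _ _))
    refine le_trans (le_of_eq ?_) (hν M)
    rw [← Nat.card_eq_finsetCard]
    exact Nat.card_congr (Equiv.subtypeEquivRight fun φ => by simp [K, MaximalSpectrum.ext_iff])
  calc (Nat.card (A →ₐ[R] F) : ℝ) * (Nat.card F : ℝ) ^ (-σ)
      ≤ ((S.card * ν : ℕ) : ℝ) * (Nat.card F : ℝ) ^ (-σ) :=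
        mul_le_mul_of_nonneg_right (by exact_mod_cast hcount) (Real.rpow_nonneg (Nat.cast_nonneg _) _)
    _ = ν * ∑ _M ∈ S, (Nat.card F : ℝ) ^ (-σ) := by
        rw [Finset.sum_const, nsmul_eq_mul]; push_cast; ring
    _ ≤ ν * ∑ M ∈ S, (Nat.card (A ⧸ M.asIdeal) : ℝ) ^ (-σ) := by
        refine mul_le_mul_of_nonneg_left (Finset.sum_le_sum fun M hM => ?_) (Nat.cast_nonneg _)
        exact Real.rpow_le_rpow_of_nonpos (by exact_mod_cast (hS M hM).2) (by exact_mod_cast (hS M hM).1)
          (by linarith)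

end Groth.Agent.ZH85.PtLow
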