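import Groth.Agent.ZH85.PtLow.Lines
import Groth.Agent.ZH85.PtLow.Model
import Groth.Agent.ZH85.PtLow.Scheme
import Groth.Agent.ZH85.PtLow.Dedekind
import Groth.Agent.DimFormula.Trdeg
import Mathlib.RingTheory.Jacobson.Ring
import Mathlib.NumberTheory.NumberField.Basic

/-! A finitely generated domain of dimension `r` flat over `ℤ` has many points modulo many primes. -/

noncomputable section

set_option linter.unusedSectionVars false
set_option linter.style.haveILetI false

universe u

open Polynomial NumberField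

namespace Groth.Agent.ZH85.PtLow

-- scalars from `ULift ℤ` only through algebra structures
attribute [-instance] ULift.smulLeft

instance : IsDomain (ULift.{u} ℤ) := (ULift.ringEquiv (R := ℤ)).toMulEquiv.isDomain ℤ

instance : UniqueFactorizationMonoid (ULift.{u} ℤ) :=
  (ULift.ringEquiv (R := ℤ)).toMulEquiv.symm.uniqueFactorizationMonoid inferInstance

theorem exists_model_charZero (R : Type u) [CommRing R] [IsDomain R] [UniqueFactorizationMonoid R]
    (L : Type u) [Field L] [Algebra R L] [CharZero L] [FaithfulSMul R L] [Algebra.EssFiniteType R L]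
    (s : ℕ) (hs : Algebra.trdeg R L = s) :
    ∃ (x : Fin s → L) (y : L) (g : (MvPolynomial (Fin s) R)[X]), IsModel x y g := by
  classical
  obtain ⟨ι, v, hv⟩ := exists_isTranscendenceBasis' R L
  have hι : Cardinal.mk ι = s := hv.cardinalMk_eq_trdeg.trans hs
  haveI : Finite ι := Cardinal.mk_lt_aleph0_iff.mp (hι ▸ Cardinal.natCast_lt_aleph0)
  have := Fintype.ofFinite ι
  have hcard : Fintype.card ι = s := by
    have := (Cardinal.mk_fintype ι).symm.trans hι
    exact_mod_cast this
  let e : ι ≃ Fin s := (Fintype.equivFin ι).trans (finCongr hcard)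
  let x : Fin s → L := v ∘ e.symm
  have hbasis : IsTranscendenceBasis R x := hv.comp_equiv e.symm
  have hx := hbasis.1
  haveI : CharZero (MvPolynomial (Fin s) R) := by
    refine ⟨fun a b h => ?_⟩
    have := congrArg (MvPolynomial.aeval x) h
    rw [map_natCast, map_natCast] at this
    exact Nat.cast_injective this
  have halg := hbasis.isAlgebraic
  obtain ⟨y, g, hM⟩ := exists_model hx fun z => by
    have hex : ∃ n, ∃ p : (MvPolynomial (Fin s) R)[X], p ≠ 0 ∧ p.natDegree = n ∧ pev x z p = 0 := by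
      obtain ⟨P, hP0, hP⟩ := halg.isAlgebraic z
      let p : (MvPolynomial (Fin s) R)[X] := P.map hx.aevalEquiv.symm.toAlgHom.toRingHom
      refine ⟨_, p, (Polynomial.map_ne_zero_iff hx.aevalEquiv.symm.injective).mpr hP0, rfl, ?_⟩
      rw [← hP, Polynomial.aeval_def]
      show eval₂ (MvPolynomial.aeval x).toRingHom z p = _
      rw [eval₂_map]
      refine congrArg (fun f => eval₂ f z P) (RingHom.ext fun a => ?_)
      show MvPolynomial.aeval x (hx.aevalEquiv.symm a) = (a : L)
      rw [← hx.algebraMap_aevalEquiv, AlgEquiv.apply_symm_apply]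
      rfl
    obtain ⟨p, hp0, hpn, hp⟩ := Nat.find_spec hex
    refine ⟨p, hp, fun hp' => ?_⟩
    have hdeg : p.natDegree ≠ 0 := fun h0 => by
      obtain ⟨c, rfl⟩ := natDegree_eq_zero.mp h0
      rw [pev_C] at hp
      exact hp0 (by rw [show c = 0 from hx (hp.trans (map_zero _).symm), map_zero])
    have hd : derivative p ≠ 0 := fun h => hdeg (natDegree_eq_zero_of_derivative_eq_zero h)
    exact Nat.find_min hex (hpn ▸ natDegree_derivative_lt hdeg) ⟨_, hd, rfl, hp'⟩
  exact ⟨x, y, g, hM⟩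

variable {B : Type u} [CommRing B] [IsDomain B] [Algebra (ULift.{u} ℤ) B]
  [Algebra.FiniteType (ULift.{u} ℤ) B]

theorem height_ulift_int_le (p : Ideal (ULift.{u} ℤ)) [p.IsPrime] : p.height ≤ 1 := by
  have h : ringKrullDim (ULift.{u} ℤ) ≤ 1 := by
    rw [ringKrullDim_eq_of_ringEquiv (ULift.ringEquiv (R := ℤ))]
    exact Ring.krullDimLE_iff.mp inferInstance
  exact_mod_cast (ringKrullDim_le_iff_height_le _).mp h ‹p.IsPrime›

theorem dim_le_trdeg_succ (hinjR : Function.Injective (algebraMap (ULift.{u} ℤ) B)) (s : ℕ)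
    (hs : Algebra.trdeg (ULift.{u} ℤ) B = s) : ringKrullDim B ≤ (s + 1 : ℕ) := by
  haveI := (faithfulSMul_iff_algebraMap_injective (ULift.{u} ℤ) B).mpr hinjR
  haveI : IsNoetherianRing (ULift.{u} ℤ) := isNoetherianRing_of_ringEquiv ℤ (ULift.ringEquiv (R := ℤ)).symm
  rw [ringKrullDim_le_iff_isMaximal_height_le]
  intro q hq
  haveI : q.LiesOver (q.under (ULift.{u} ℤ)) := ⟨rfl⟩
  have h := (DimFormula.trdeg_formula (ULift.{u} ℤ) (q.under (ULift.{u} ℤ)) q).1
  have h1 : (q.height : Cardinal.{u}) ≤ ((q.under (ULift.{u} ℤ)).height : Cardinal.{u}) + s := by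
    rw [← hs]
    exact le_trans (self_le_add_right _ _) h
  have h2 : ((q.under (ULift.{u} ℤ)).height : Cardinal.{u}) ≤ ((1 : ℕ∞) : Cardinal.{u}) :=
    Cardinal.ofENat_le_ofENat.mpr (height_ulift_int_le _)
  have h3 : (q.height : Cardinal.{u}) ≤ (((s + 1 : ℕ) : ℕ∞) : Cardinal.{u}) := by
    refine h1.trans ((add_le_add h2 le_rfl).trans ?_)
    simp [add_comm]
  exact_mod_cast Cardinal.ofENat_le_ofENat.mp h3

theorem natCast_surjective_of_card_prime (F : Type u) [Field F] {p : ℕ} (hp : p.Prime)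
    (hF : Nat.card F = p) (x : F) : ∃ n : ℕ, (n : F) = x := by
  haveI : Fact p.Prime := ⟨hp⟩
  obtain ⟨hfin, hchar⟩ := ZetaLib.charP_of_natCard hp (show Nat.card F = p ^ 1 by rw [pow_one, hF])
  have hbij : Function.Bijective (ZMod.castHom (dvd_refl p) F) := by
    have := Fintype.ofFinite F
    rw [Fintype.bijective_iff_injective_and_card]
    exact ⟨ZMod.castHom_injective F, by rw [ZMod.card, ← hF, Nat.card_eq_fintype_card]⟩
  obtain ⟨a, rfl⟩ := hbij.2 x
  exact ⟨a.val, by rw [ZMod.castHom_apply, ZMod.natCast_val]⟩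

/-- **Points modulo many primes.** -/
theorem exists_primes_points [CharZero B] (hinjR : Function.Injective (algebraMap (ULift.{u} ℤ) B)) (r : ℕ) (hdim : ringKrullDim B = r) :
    ∃ (K : Type u) (_ : Field K) (_ : NumberField K) (N c : ℕ), N ≠ 0 ∧
      ∀ P : {P : Pr K // (Ideal.absNorm P.1).Prime ∧ ¬ Ideal.absNorm P.1 ∣ N},
        ∃ (F : Type u) (_ : Field F) (_ : Algebra (ULift.{u} ℤ) F),
          Nat.card F = Ideal.absNorm P.1.1 ∧ Finite (B →ₐ[ULift.{u} ℤ] F) ∧
          (Nat.card F : ℝ) ^ ((r : ℝ) - 1) * (1 - c / Real.sqrt (Nat.card F)) ≤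
            Nat.card (B →ₐ[ULift.{u} ℤ] F) := by
  classical
  let L := FractionRing B
  haveI := (faithfulSMul_iff_algebraMap_injective (ULift.{u} ℤ) B).mpr hinjR
  haveI : CharZero L := charZero_of_injective_algebraMap (IsFractionRing.injective B L)
  haveI : Algebra.EssFiniteType B L := Algebra.EssFiniteType.of_isLocalization L (nonZeroDivisors B)
  haveI : Algebra.EssFiniteType (ULift.{u} ℤ) L := Algebra.EssFiniteType.comp (ULift.{u} ℤ) B L
  haveI : FaithfulSMul (ULift.{u} ℤ) L := (faithfulSMul_iff_algebraMap_injective _ _).mpr (by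
    rw [IsScalarTower.algebraMap_eq (ULift.{u} ℤ) B L]
    exact (IsFractionRing.injective B L).comp hinjR)
  obtain ⟨gens, hgens⟩ := Algebra.FiniteType.out (R := (ULift.{u} ℤ)) (A := B)
  haveI : Algebra.IsAlgebraic (Algebra.adjoin (ULift.{u} ℤ) (gens : Set B)) B := by
    rw [hgens]
    refine ⟨fun b => ?_⟩
    exact isAlgebraic_algebraMap (⟨b, trivial⟩ : (⊤ : Subalgebra (ULift.{u} ℤ) B))
  obtain ⟨s, hs⟩ : ∃ s : ℕ, Algebra.trdeg (ULift.{u} ℤ) B = s :=
    Cardinal.lt_aleph0.mp ((Algebra.IsAlgebraic.trdeg_le_cardinalMk (ULift.{u} ℤ) (gens : Set B)).trans_lt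
      (Cardinal.lt_aleph0_of_finite _))
  have hsL : Algebra.trdeg (ULift.{u} ℤ) L = s := by
    have h := lift_trdeg_add_eq (ULift.{u} ℤ) B L
    haveI : Algebra.IsAlgebraic B L := IsLocalization.isAlgebraic L (nonZeroDivisors B)
    rw [trdeg_eq_zero (R := B) (A := L), Cardinal.lift_zero, add_zero, Cardinal.lift_id,
      Cardinal.lift_id] at h
    exact h.symm.trans hs
  have hrs : (r : ℝ) - 1 ≤ s := by
    have := dim_le_trdeg_succ (B := B) hinjR s hs
    rw [hdim] at this
    have h : r ≤ s + 1 := by exact_mod_cast this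
    have : (r : ℝ) ≤ (s : ℝ) + 1 := by exact_mod_cast h
    linarith
  obtain ⟨x, y, g, hM⟩ := exists_model_charZero (ULift.{u} ℤ) L s hsL
  obtain ⟨W, hW, hΦ⟩ := hM.exists_homs (IsScalarTower.toAlgHom (ULift.{u} ℤ) B L) (IsFractionRing.injective B L)
    (fun z => by
      obtain ⟨p, q, hq, rfl⟩ := IsFractionRing.div_surjective (A := B) z
      have hq' : algebraMap B L q ≠ 0 :=
        (map_ne_zero_iff _ (IsFractionRing.injective B L)).mpr (nonZeroDivisors.ne_zero hq)
      exact ⟨p, q, hq', div_mul_cancel₀ _ hq'⟩)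
  let S : Subalgebra ℚ L := Algebra.adjoin ℚ (insert y (Set.range x))
  haveI : Algebra.FiniteType ℚ S := (S.fg_iff_finiteType).mp
    (Subalgebra.fg_def.mpr ⟨_, (Set.finite_range x).insert y, rfl⟩)
  let xS : Fin s → S := fun i => ⟨x i, Algebra.subset_adjoin (Set.mem_insert_of_mem _ ⟨i, rfl⟩)⟩
  let yS : S := ⟨y, Algebra.subset_adjoin (Set.mem_insert _ _)⟩
  let castS : (ULift.{u} ℤ) →+* S := (Int.castRingHom S).comp (ULift.ringEquiv (R := ℤ)).toRingHom
  have hext : ∀ {T : Type u} [CommRing T] (φ ψ : (ULift.{u} ℤ) →+* T), φ = ψ := fun φ ψ => by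
    have h := RingHom.ext_int (φ.comp (ULift.ringEquiv (R := ℤ)).symm.toRingHom)
      (ψ.comp (ULift.ringEquiv (R := ℤ)).symm.toRingHom)
    ext a
    have h' := RingHom.congr_fun h a.down
    exact h'
  let c₀ : MvPolynomial (Fin s) (ULift.{u} ℤ) →+* S := MvPolynomial.eval₂Hom castS xS
  let evS : (MvPolynomial (Fin s) (ULift.{u} ℤ))[X] →+* S := Polynomial.eval₂RingHom c₀ yS
  have hevS : ∀ p, (evS p : L) = pev x y p := fun p => by
    show S.val.toRingHom (Polynomial.eval₂ c₀ yS p) = _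
    rw [hom_eval₂]
    refine congrArg (fun f => eval₂ f y p) (MvPolynomial.ringHom_ext (fun a => ?_) fun i => ?_)
    · show (S.val.toRingHom.comp c₀) (MvPolynomial.C a) = MvPolynomial.aeval x (MvPolynomial.C a)
      rw [MvPolynomial.aeval_C, RingHom.comp_apply, show c₀ (MvPolynomial.C a) = castS a from MvPolynomial.eval₂Hom_C _ _ _]
      exact RingHom.congr_fun (hext (S.val.toRingHom.comp castS) (algebraMap (ULift.{u} ℤ) L)) a
    · show S.val.toRingHom (c₀ (MvPolynomial.X i)) = MvPolynomial.aeval x (MvPolynomial.X i)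
      rw [MvPolynomial.aeval_X, show c₀ (MvPolynomial.X i) = xS i from MvPolynomial.eval₂Hom_X' _ _ _]
      rfl
  let w : S := evS (C W * derivative g)
  have hw : (w : L) ≠ 0 := by
    rw [show (w : L) = pev x y (C W * derivative g) from hevS _, map_mul, pev_C]
    exact mul_ne_zero hW hM.sep
  haveI : IsJacobsonRing S := isJacobsonRing_of_finiteType (A := ℚ)
  have hjac : (⊥ : Ideal S).jacobson = ⊥ :=
    IsJacobsonRing.out' _ (Ideal.isPrime_bot (α := S)).isRadical
  obtain ⟨M, hMmax, hwM⟩ : ∃ M : Ideal S, M.IsMaximal ∧ w ∉ M := by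
    by_contra! hall
    apply hw
    have : w ∈ (⊥ : Ideal S).jacobson := Ideal.mem_sInf.mpr fun {J} hJ => hall J hJ.2
    rw [hjac, Ideal.mem_bot] at this
    rw [this]; rfl
  haveI := hMmax
  obtain ⟨K, iK, iN, π, hwK⟩ :
      ∃ (K : Type u) (_ : Field K) (_ : NumberField K) (π : S →+* K), π w ≠ 0 := by
    haveI : Algebra.FiniteType ℚ (S ⧸ M) :=
      Algebra.FiniteType.of_surjective (Ideal.Quotient.mkₐ ℚ M) (Ideal.Quotient.mkₐ_surjective ℚ M)
    letI iF : Field (S ⧸ M) := Ideal.Quotient.field M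
    have hfd : @Module.Finite ℚ (S ⧸ M) _ _ (Ideal.Quotient.algebra ℚ).toModule :=
      finite_of_finite_type_of_isJacobsonRing ℚ (S ⧸ M)
    haveI : CharZero (S ⧸ M) := charZero_of_injective_algebraMap (algebraMap ℚ (S ⧸ M)).injective
    have heq : (Ideal.Quotient.algebra ℚ : Algebra ℚ (S ⧸ M)) = DivisionRing.toRatAlgebra :=
      Subsingleton.elim _ _
    rw [heq] at hfd
    exact ⟨S ⧸ M, iF, { to_charZero := inferInstance, to_finiteDimensional := hfd }, Ideal.Quotient.mk M, fun h => hwM (Ideal.Quotient.eq_zero_iff_mem.mp h)⟩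
  letI := iK
  haveI := iN
  let els : Finset K := insert (π yS) (insert (π (evS (C W * derivative g)))⁻¹ (Finset.univ.image fun i => π (xS i)))
  haveI : Algebra.IsAlgebraic ℤ K :=
    (IsFractionRing.comap_isAlgebraic_iff (A := ℤ) (K := ℚ) (C := K)).mpr inferInstance
  obtain ⟨n0, hn0, hint⟩ := Algebra.IsAlgebraic.exists_integral_multiples ℤ els
  refine ⟨K, inferInstance, inferInstance, n0.natAbs, ?_⟩
  let D : ℕ := max W.totalDegree (g.support.sup fun i => (g.coeff i).totalDegree)
  obtain ⟨c, hc⟩ := hyper_card_ge.{u} s D g.natDegree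
  refine ⟨c, Int.natAbs_ne_zero.mpr hn0, fun P => ?_⟩
  obtain ⟨⟨P, hPp, hP0⟩, hpprime, hpN⟩ := P
  haveI := hPp.isMaximal hP0
  let F := 𝓞 K ⧸ P
  letI : Field F := Ideal.Quotient.field P
  letI : Algebra (ULift.{u} ℤ) F := ((Int.castRingHom F).comp (ULift.ringEquiv (R := ℤ)).toRingHom).toAlgebra
  have hcardF : Nat.card F = Ideal.absNorm P := by
    rw [Ideal.absNorm_apply, Submodule.cardQuot_apply]
  haveI : Finite F := Nat.finite_of_card_ne_zero (by rw [hcardF]; exact hpprime.ne_zero)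
  obtain ⟨-, hchar⟩ := ZetaLib.charP_of_natCard hpprime (show Nat.card F = Ideal.absNorm P ^ 1 by rw [pow_one, hcardF])
  let nO : 𝓞 K := (n0 : 𝓞 K)
  let Loc := Localization.Away nO
  have hnK : algebraMap (𝓞 K) K nO ≠ 0 := by
    rw [show algebraMap (𝓞 K) K nO = (n0 : K) from map_intCast _ _]
    exact_mod_cast hn0
  let θ : Loc →+* K := IsLocalization.Away.lift nO (g := algebraMap (𝓞 K) K) (isUnit_iff_ne_zero.mpr hnK)
  have hθ : ∀ a, θ (algebraMap (𝓞 K) Loc a) = algebraMap (𝓞 K) K a := fun a => IsLocalization.Away.lift_eq _ _ a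
  have hθinj : Function.Injective θ := by
    show Function.Injective (IsLocalization.lift _)
    rw [IsLocalization.lift_injective_iff]
    refine fun a b => ⟨fun h => ?_, fun h => ?_⟩
    · have := congrArg θ h
      rwa [hθ, hθ] at this
    · exact congrArg _ (RingOfIntegers.coe_injective h)
  have hnF : (Ideal.Quotient.mk P nO : F) ≠ 0 := by
    rw [show (Ideal.Quotient.mk P nO : F) = (n0 : F) from map_intCast _ _, Ne, CharP.intCast_eq_zero_iff F (Ideal.absNorm P)]
    exact fun h => hpN (Int.natCast_dvd.mp h)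
  let φ : Loc →+* F := IsLocalization.Away.lift nO (g := Ideal.Quotient.mk P) (isUnit_iff_ne_zero.mpr hnF)
  have hrange : ∀ e ∈ els, ∃ l, θ l = e := fun e he => by
    have h1 : IsIntegral ℤ (n0 • e) := hint e he
    let o : 𝓞 K := ⟨n0 • e, h1⟩
    refine ⟨IsLocalization.mk' Loc o (⟨nO, Submonoid.mem_powers nO⟩ : Submonoid.powers nO), ?_⟩
    have h2 := congrArg θ (IsLocalization.mk'_spec Loc o (⟨nO, Submonoid.mem_powers nO⟩ : Submonoid.powers nO))
    rw [map_mul, hθ, hθ] at h2
    refine mul_right_cancel₀ hnK (h2.trans ?_)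
    rw [show algebraMap (𝓞 K) K nO = (n0 : K) from map_intCast _ _, mul_comm, ← zsmul_eq_mul]
    rfl
  choose xl hxl using fun i => hrange (π (xS i))
    (Finset.mem_insert_of_mem (Finset.mem_insert_of_mem (Finset.mem_image_of_mem _ (Finset.mem_univ i))))
  obtain ⟨yl, hyl⟩ := hrange (π yS) (Finset.mem_insert_self _ _)
  obtain ⟨wl, hwl⟩ := hrange _ (Finset.mem_insert_of_mem (Finset.mem_insert_self _ _))
  let castL : (ULift.{u} ℤ) →+* Loc := (Int.castRingHom Loc).comp (ULift.ringEquiv (R := ℤ)).toRingHom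
  let evL : (MvPolynomial (Fin s) (ULift.{u} ℤ))[X] →+* Loc :=
    Polynomial.eval₂RingHom (MvPolynomial.eval₂Hom castL xl) yl
  have hθev : ∀ p, θ (evL p) = π (evS p) := fun p => by
    refine RingHom.congr_fun (f := θ.comp evL) (g := π.comp evS) (Polynomial.ringHom_ext (fun c => ?_) ?_) p
    · simp only [RingHom.comp_apply, evL, evS, Polynomial.coe_eval₂RingHom, eval₂_C]
      refine RingHom.congr_fun (f := θ.comp (MvPolynomial.eval₂Hom castL xl)) (g := π.comp c₀)
        (MvPolynomial.ringHom_ext (fun a => RingHom.congr_fun (hext ((θ.comp (MvPolynomial.eval₂Hom castL xl)).comp MvPolynomial.C) ((π.comp c₀).comp MvPolynomial.C)) a) fun i => ?_) c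
      simp only [RingHom.comp_apply, c₀, MvPolynomial.eval₂Hom_X', hxl]
    · simp only [RingHom.comp_apply, evL, evS, Polynomial.coe_eval₂RingHom, eval₂_X, hyl]
  let a : Fin s → F := fun i => φ (xl i)
  have hφev : ∀ p, φ (evL p) = (p.map (MvPolynomial.aeval a).toRingHom).eval (φ yl) := fun p => by
    rw [eval_map]
    refine RingHom.congr_fun (f := φ.comp evL) (g := eval₂RingHom (MvPolynomial.aeval a).toRingHom (φ yl))
      (Polynomial.ringHom_ext (fun c => ?_) ?_) p
    · simp only [RingHom.comp_apply, evL, Polynomial.coe_eval₂RingHom, eval₂_C]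
      refine RingHom.congr_fun (f := φ.comp (MvPolynomial.eval₂Hom castL xl)) (g := (MvPolynomial.aeval a).toRingHom)
        (MvPolynomial.ringHom_ext (fun b => RingHom.congr_fun (hext ((φ.comp (MvPolynomial.eval₂Hom castL xl)).comp MvPolynomial.C) ((MvPolynomial.aeval a).toRingHom.comp MvPolynomial.C)) b) fun i => ?_) c
      simp [a]
    · simp [evL]
  have hgL : evL g = 0 := hθinj (by
    rw [hθev, map_zero, show evS g = 0 from Subtype.ext (by rw [hevS, hM.root]; rfl), map_zero])
  have hunit : evL (C W * derivative g) * wl = 1 := hθinj (by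
    rw [map_mul, hθev, hwl, map_one, mul_inv_cancel₀ hwK])
  have hne : φ (evL (C W * derivative g)) ≠ 0 := fun h => by
    have := congrArg φ hunit
    rw [map_mul, h, zero_mul, map_one] at this
    exact zero_ne_one this
  rw [hφev, Polynomial.map_mul, eval_mul, Polynomial.map_C, eval_C, ← derivative_map] at hne
  let g' : (MvPolynomial (Fin s) F)[X] := g.map (MvPolynomial.map (algebraMap (ULift.{u} ℤ) F))
  have hev : ∀ (p : (MvPolynomial (Fin s) (ULift.{u} ℤ))[X]) (u : Fin s → F) (t : F),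
      gEv (p.map (MvPolynomial.map (algebraMap (ULift.{u} ℤ) F))) u t = (p.map (MvPolynomial.aeval u).toRingHom).eval t :=
    fun p u t => by
      rw [gEv, Polynomial.map_map]
      congr 2
      exact RingHom.ext fun q => by simp [MvPolynomial.eval_map, MvPolynomial.aeval_def]
  have htd : ∀ p : MvPolynomial (Fin s) (ULift.{u} ℤ),
      (MvPolynomial.map (algebraMap (ULift.{u} ℤ) F) p).totalDegree ≤ p.totalDegree := fun p =>
    Finset.sup_mono (MvPolynomial.support_map_subset _ _)
  have h := hc F g' (hM.monic.map _) natDegree_map_le (fun i => by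
      rw [coeff_map]
      refine (htd _).trans ?_
      by_cases hi : i ∈ g.support
      · exact le_trans (Finset.le_sup (f := fun i => (g.coeff i).totalDegree) hi) (le_max_right _ _)
      · simp [notMem_support_iff.mp hi])
    (MvPolynomial.map (algebraMap (ULift.{u} ℤ) F) W) ((htd W).trans (le_max_left _ _)) a (φ yl)
    (by rw [hev, ← hφev, hgL, map_zero])
    (by rw [derivative_map, hev, ← derivative_map]; exact (mul_ne_zero_iff.mp hne).2)
    (by rw [MvPolynomial.eval_map, ← MvPolynomial.aeval_def]; exact (mul_ne_zero_iff.mp hne).1)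
  obtain ⟨Φ, hΦinj⟩ := hΦ F
  have hfinA : Finite (B →ₐ[(ULift.{u} ℤ)] F) :=
    Finite.of_injective (fun ψ (b : gens) => ψ b) fun ψ χ h =>
      AlgHom.ext_of_adjoin_eq_top hgens fun b hb => congrFun h ⟨b, hb⟩
  refine ⟨F, inferInstance, inferInstance, hcardF, hfinA, ?_⟩
  have h1F : (1 : ℝ) ≤ Nat.card F := by exact_mod_cast Nat.card_pos
  by_cases hneg : 1 - (c : ℝ) / Real.sqrt (Nat.card F) ≤ 0
  · exact (mul_nonpos_of_nonneg_of_nonpos (Real.rpow_nonneg (Nat.cast_nonneg _) _) hneg).trans (Nat.cast_nonneg _)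
  refine le_trans (mul_le_mul_of_nonneg_right ?_ (not_le.mp hneg).le) (h.trans ?_)
  · rw [← Real.rpow_natCast]
    exact Real.rpow_le_rpow_of_exponent_le h1F hrs
  let e : {p : (Fin s → F) × F // gEv g' p.1 p.2 = 0 ∧
        MvPolynomial.eval p.1 (MvPolynomial.map (algebraMap (ULift.{u} ℤ) F) W) ≠ 0} → (B →ₐ[(ULift.{u} ℤ)] F) := fun p =>
    Φ ⟨p.1, by rw [← hev]; exact p.2.1, by
      rw [MvPolynomial.aeval_def, ← MvPolynomial.eval_map]; exact p.2.2⟩
  have he : Function.Injective e := fun p p' h => Subtype.ext (Subtype.mk.inj (hΦinj h))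
  exact_mod_cast Nat.card_le_card_of_injective e he

/-- Below the dimension the sum over maximal ideals diverges. -/
theorem not_summable_charZero [CharZero B] (hinjR : Function.Injective (algebraMap (ULift.{u} ℤ) B)) (r : ℕ)
    (hdim : ringKrullDim B = r) {σ : ℝ} (hσ0 : 0 ≤ σ) (hσ : σ < r) :
    ¬ Summable fun M : MaximalSpectrum B => (Nat.card (B ⧸ M.asIdeal) : ℝ) ^ (-σ) := by
  classical
  intro hsum
  obtain ⟨K, iK, iN, N, c, hN, hP⟩ := exists_primes_points (B := B) hinjR r hdim
  letI := iK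
  haveI := iN
  let c2 : ℕ := (2 * c + 1) ^ 2
  have hN' : N * c2.factorial ≠ 0 := mul_ne_zero hN (Nat.factorial_ne_zero _)
  refine not_summable_degree_one K (N * c2.factorial) hN' ?_
  let T := {P : Pr K // (Ideal.absNorm P.1).Prime ∧ ¬ Ideal.absNorm P.1 ∣ N * c2.factorial}
  let d := Module.finrank ℤ (𝓞 K)
  -- the sums over the maximal ideals with a given norm
  let G : ℕ → ℝ := fun n => ∑' M : {M : MaximalSpectrum B // Nat.card (B ⧸ M.asIdeal) = n},
    (Nat.card (B ⧸ M.1.asIdeal) : ℝ) ^ (-σ)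
  have hGsum : Summable G :=
    ((summable_sigma_of_nonneg fun x => Real.rpow_nonneg (Nat.cast_nonneg _) _).1
      ((Equiv.sigmaFiberEquiv fun M : MaximalSpectrum B => Nat.card (B ⧸ M.asIdeal)).summable_iff.2 hsum)).2
  have hkey : ∀ P : T, ((Ideal.absNorm P.1.1 : ℝ))⁻¹ ≤ 2 * G (Ideal.absNorm P.1.1) := by
    intro P
    have hP1 : ¬ Ideal.absNorm P.1.1 ∣ N := fun h => P.2.2 (h.mul_right _)
    obtain ⟨F, iF, iA, hcard, hfin, hlow⟩ := hP ⟨P.1, P.2.1, hP1⟩
    letI := iF
    letI := iA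
    haveI := hfin
    set p := Ideal.absNorm P.1.1 with hpdef
    have hp : p.Prime := P.2.1
    haveI : Finite F := Nat.finite_of_card_ne_zero (by rw [hcard]; exact hp.ne_zero)
    have hν : ∀ M : MaximalSpectrum B,
        Nat.card {φ : B →ₐ[ULift.{u} ℤ] F // RingHom.ker φ.toRingHom = M.asIdeal} ≤ 1 := fun M => by
      rw [Finite.card_le_one_iff_subsingleton]
      refine ⟨fun φ ψ => Subtype.ext (AlgHom.ext fun b => ?_)⟩
      obtain ⟨n, hn⟩ := natCast_surjective_of_card_prime F hp hcard (φ.1 b)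
      have hmem : b - (n : B) ∈ RingHom.ker ψ.1.toRingHom := by
        rw [ψ.2, ← φ.2, RingHom.mem_ker]
        show φ.1 (b - (n : B)) = 0
        rw [map_sub, map_natCast, hn, sub_self]
      have h0 : ψ.1 (b - (n : B)) = 0 := hmem
      rw [map_sub, map_natCast, sub_eq_zero] at h0
      rw [h0, hn]
    obtain ⟨S, hS, hSex, h2⟩ := sum_ge_of_homs (R := ULift.{u} ℤ) (A := B) F 1 hν hσ0
    have hSp : ∀ M ∈ S, Nat.card (B ⧸ M.asIdeal) = p := fun M hM => by
      obtain ⟨hle, hpos⟩ := hS M hM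
      haveI : Finite (B ⧸ M.asIdeal) := Nat.finite_of_card_ne_zero hpos.ne'
      rw [hcard] at hle
      haveI := M.isMaximal
      letI : Field (B ⧸ M.asIdeal) := Ideal.Quotient.field _
      refine le_antisymm hle ?_
      by_contra hlt
      obtain ⟨φ, hφ⟩ : ∃ φ : B →ₐ[ULift.{u} ℤ] F, RingHom.ker φ.toRingHom = M.asIdeal := hSex M hM
      exact hlt (by
        rw [← hcard, Nat.card_congr (RingEquiv.ofBijective (Ideal.Quotient.lift M.asIdeal φ.toRingHom (fun a ha => by rwa [← hφ] at ha))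
          ⟨RingHom.injective _, fun z => by
            obtain ⟨n, rfl⟩ := natCast_surjective_of_card_prime F hp hcard z
            exact ⟨n, map_natCast _ n⟩⟩).toEquiv])
    have h3 : ∑ M ∈ S, (Nat.card (B ⧸ M.asIdeal) : ℝ) ^ (-σ) ≤ G p := by
      rw [← Finset.sum_subtype_of_mem (p := fun M : MaximalSpectrum B => Nat.card (B ⧸ M.asIdeal) = p) _ hSp]
      exact (hsum.subtype _).sum_le_tsum _ fun x _ => Real.rpow_nonneg (Nat.cast_nonneg _) _
    have hp0 : (0 : ℝ) < p := by exact_mod_cast hp.pos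
    have hcbound : (c : ℝ) / Real.sqrt p ≤ 1 / 2 := by
      rw [div_le_iff₀ (Real.sqrt_pos.mpr hp0)]
      have hp2 : c2 ≤ p := by
        by_contra hlt
        exact P.2.2 ((Nat.dvd_factorial hp.pos (not_le.mp hlt).le).mul_left _)
      have : 2 * (c : ℝ) ≤ Real.sqrt p := Real.le_sqrt_of_sq_le (by
        have h' : (2 * c) ^ 2 ≤ p := le_trans (Nat.pow_le_pow_left (by omega) 2) hp2
        exact_mod_cast h')
      linarith
    rw [hcard] at hlow h2
    have h4 : (p : ℝ) ^ ((r : ℝ) - 1) * (1 / 2) * (p : ℝ) ^ (-σ) ≤ G p := by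
      refine le_trans (mul_le_mul_of_nonneg_right
        ((mul_le_mul_of_nonneg_left (by linarith) (Real.rpow_nonneg hp0.le _)).trans hlow)
        (Real.rpow_nonneg hp0.le _)) (h2.trans ?_)
      rw [Nat.cast_one, one_mul]
      exact h3
    have h5 : ((p : ℝ))⁻¹ ≤ (p : ℝ) ^ ((r : ℝ) - 1) * (p : ℝ) ^ (-σ) := by
      rw [← Real.rpow_neg_one, ← Real.rpow_add hp0]
      exact Real.rpow_le_rpow_of_exponent_le (by exact_mod_cast hp.one_lt.le) (by linarith)
    linarith
  refine Summable.of_nonneg_of_le (fun P => by positivity) hkey ((Summable.mul_left 2 ?_))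
  -- at most `d` primes have a given norm
  rw [← (Equiv.sigmaFiberEquiv fun P : T => Ideal.absNorm P.1.1).summable_iff]
  have hG0 : ∀ n, 0 ≤ G n := fun n => tsum_nonneg fun x => Real.rpow_nonneg (Nat.cast_nonneg _) _
  refine (summable_sigma_of_nonneg fun x => hG0 _).2 ⟨fun n => ?_, ?_⟩
  · haveI := (finite_fibre K (N * c2.factorial) n).1
    exact Summable.of_finite
  · refine (hGsum.mul_left (d : ℝ)).of_nonneg_of_le (fun n => tsum_nonneg fun x => hG0 _) fun n => ?_
    haveI := (finite_fibre K (N * c2.factorial) n).1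
    have hval : ∀ x : {P : T // Ideal.absNorm P.1.1 = n},
        G (Ideal.absNorm ((Equiv.sigmaFiberEquiv fun P : T => Ideal.absNorm P.1.1) ⟨n, x⟩).1.1) = G n := fun x => by
      rw [Equiv.sigmaFiberEquiv_apply, x.2]
    refine ((tsum_congr hval).trans (tsum_const _)).trans_le ?_
    rw [nsmul_eq_mul]
    exact mul_le_mul_of_nonneg_right (by exact_mod_cast (finite_fibre K (N * c2.factorial) n).2) (hG0 n)

end Groth.Agent.ZH85.PtLow
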