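import Groth.Agent.FFLib.RR
import Groth.Agent.FFLib.Weil.RH
import Groth.Agent.FFLib.Weil.ConstPlaces
import Mathlib.Algebra.Polynomial.Bivariate
import Mathlib.RingTheory.AdjoinRoot
import Mathlib.RingTheory.Polynomial.GaussLemma
import Mathlib.FieldTheory.RatFunc.Basic
import Mathlib.RingTheory.Localization.Integral
import Mathlib.Analysis.SpecialFunctions.Pow.Real

/-! Rational points of plane curves `h(s, t) = 0`, `h` monic in `t`, near a simple rational point. -/

noncomputable section

set_option linter.unusedSectionVars false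
set_option linter.style.haveILetI false

universe u

open Polynomial FunFld WithZero IntermediateField

namespace Groth.Agent.ZH85.PtLow

variable {F E : Type u} [Field F] [Field E] [Algebra F E]

/-- Evaluation of a bivariate polynomial at `(x, y)`. -/
def ev (x y : E) : (F[X])[X] →+* E := Polynomial.eval₂RingHom (aeval x).toRingHom y

variable (x y : E)

theorem ev_C (p : F[X]) : ev x y (C p) = aeval x p := by simp [ev]

theorem ev_X : ev (F := F) x y X = y := by simp [ev]

theorem ev_CC (c : F) : ev x y (C (C c)) = algebraMap F E c := by rw [ev_C, aeval_C]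

theorem exists_split (p : (F[X])[X]) (a b : F) :
    ∃ (A : (F[X])[X]) (B : F[X]),
      p = (X - C (C b)) * A + C ((X - C a) * B) + C (C (p.evalEval a b)) := by
  obtain ⟨A, hA⟩ := X_sub_C_dvd_sub_C_eval (a := C b) (p := p)
  obtain ⟨B, hB⟩ := X_sub_C_dvd_sub_C_eval (a := a) (p := p.eval (C b))
  refine ⟨A, B, ?_⟩
  rw [← hB, ← hA, show p.evalEval a b = (p.eval (C b)).eval a from rfl, map_sub]
  ring

section Place

variable {x y} {P Q : Place F E} {a b : F}

theorem val_ev_sub_lt (hx : P.1 (x - algebraMap F E a) < 1) (hy : P.1 (y - algebraMap F E b) < 1)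
    (p : (F[X])[X]) : P.1 (ev x y p - algebraMap F E (p.evalEval a b)) < 1 := by
  have hx1 : P.1 x ≤ 1 := by
    rw [← sub_add_cancel x (algebraMap F E a)]
    exact (P.1.map_add _ _).trans (max_le hx.le (P.2.1 a))
  have hy1 : P.1 y ≤ 1 := by
    rw [← sub_add_cancel y (algebraMap F E b)]
    exact (P.1.map_add _ _).trans (max_le hy.le (P.2.1 b))
  have hxs : ∀ B : F[X], P.1 (aeval x B) ≤ 1 := fun B => by
    induction B using Polynomial.induction_on' with
    | add B C hB hC => rw [map_add]; exact (P.1.map_add _ _).trans (max_le hB hC)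
    | monomial n c =>
      rw [aeval_monomial, map_mul, map_pow]
      exact mul_le_one' (P.2.1 c) (pow_le_one₀ zero_le hx1)
  have hys : ∀ A : (F[X])[X], P.1 (ev x y A) ≤ 1 := fun A => by
    induction A using Polynomial.induction_on' with
    | add B C hB hC => rw [map_add]; exact (P.1.map_add _ _).trans (max_le hB hC)
    | monomial n c =>
      rw [← C_mul_X_pow_eq_monomial, map_mul, map_pow, ev_C, ev_X, map_mul, map_pow]
      exact mul_le_one' (hxs c) (pow_le_one₀ zero_le hy1)
  obtain ⟨A, B, hp⟩ := exists_split p a b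
  have : ev x y p - algebraMap F E (p.evalEval a b) =
      (y - algebraMap F E b) * ev x y A + (x - algebraMap F E a) * aeval x B := by
    rw [sub_eq_iff_eq_add]
    conv_lhs => rw [hp]
    simp [ev_C, ev_X]
  rw [this]
  refine (P.1.map_add _ _).trans_lt (max_lt ?_ ?_) <;> rw [map_mul]
  · exact (mul_le_of_le_one_right' (hys A)).trans_lt hy
  · exact (mul_le_of_le_one_right' (hxs B)).trans_lt hx

theorem val_ev_eq_one (hx : P.1 (x - algebraMap F E a) < 1) (hy : P.1 (y - algebraMap F E b) < 1)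
    {p : (F[X])[X]} (hp : p.evalEval a b ≠ 0) : P.1 (ev x y p) = 1 := by
  have h := val_ev_sub_lt hx hy p
  have h1 : P.1 (algebraMap F E (p.evalEval a b)) = 1 := FFLib.val_algebraMap P hp
  rw [← sub_add_cancel (ev x y p) (algebraMap F E (p.evalEval a b)), P.1.map_add_eq_of_lt_right (by rwa [h1]), h1]

theorem ev_ne_zero (hx : P.1 (x - algebraMap F E a) < 1) (hy : P.1 (y - algebraMap F E b) < 1)
    {p : (F[X])[X]} (hp : p.evalEval a b ≠ 0) : ev x y p ≠ 0 := fun h0 => by
  have := val_ev_eq_one hx hy hp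
  simp [h0] at this

variable {h : (F[X])[X]} (hev : ev x y h = 0) (hsimple : h.derivative.evalEval a b ≠ 0)
  (hab : h.evalEval a b = 0) (hxt : Transcendental F x)
  (hgen : ∀ z : E, ∃ p q : (F[X])[X], ev x y q ≠ 0 ∧ z * ev x y q = ev x y p)

include hev hsimple hab hxt in
/-- At a simple point `x - a` is a uniformizer of the local ring of the curve. -/
theorem exists_decomp (hx : P.1 (x - algebraMap F E a) < 1) (hy : P.1 (y - algebraMap F E b) < 1)
    (p : (F[X])[X]) (hp : ev x y p ≠ 0) :
    ∃ (m : ℕ) (w s : (F[X])[X]), w.evalEval a b ≠ 0 ∧ s.evalEval a b ≠ 0 ∧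
      ev x y p * ev x y s = (x - algebraMap F E a) ^ m * ev x y w := by
  induction hN : (P.ord (ev x y p)).toNat using Nat.strong_induction_on generalizing p with
  | _ N ih =>
  subst hN
  by_cases hp0 : p.evalEval a b = 0
  · obtain ⟨A, B, hsp⟩ := exists_split p a b
    obtain ⟨G, H, hsh⟩ := exists_split h a b
    rw [hp0] at hsp; rw [hab] at hsh
    simp only [map_zero, add_zero] at hsp hsh
    have hG : G.evalEval a b ≠ 0 := by
      intro hG
      apply hsimple
      rw [hsh]
      simp [derivative_mul, evalEval] at hG ⊢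
      simpa using hG
    have hxa : x - algebraMap F E a ≠ 0 := fun e => hxt (by
      rw [sub_eq_zero.mp e]; exact isAlgebraic_algebraMap a)
    have e1 : ev x y p = (y - algebraMap F E b) * ev x y A + (x - algebraMap F E a) * aeval x B := by
      conv_lhs => rw [hsp]
      simp [ev_C, ev_X]
    have e2 : (y - algebraMap F E b) * ev x y G + (x - algebraMap F E a) * aeval x H = 0 := by
      rw [← hev]
      conv_rhs => rw [hsh]
      simp [ev_C, ev_X]
    let p' : (F[X])[X] := C B * G - A * C H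
    have key : ev x y p * ev x y G = (x - algebraMap F E a) * ev x y p' := by
      simp only [p', map_sub, map_mul, ev_C]
      rw [e1]
      linear_combination (ev x y A) * e2
    have hG0 := ev_ne_zero hx hy hG
    have hp' : ev x y p' ≠ 0 := fun e => by
      rw [e, mul_zero] at key
      exact (mul_ne_zero hp hG0) key
    have hord := congrArg P.ord key
    rw [FFLib.ord_mul P hp hG0, FFLib.ord_mul P hxa hp'] at hord
    have hGord : P.ord (ev x y G) = 0 :=
      FFLib.ord_of_val_eq P (by simpa using val_ev_eq_one hx hy hG)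
    have hpos := (FFLib.val_lt_one_iff P hxa).mp hx
    have hp'nn : 0 ≤ P.ord (ev x y p') := by
      refine (FFLib.val_le_one_iff P hp').mp ?_
      rw [← sub_add_cancel (ev x y p') (algebraMap F E (p'.evalEval a b))]
      exact (P.1.map_add _ _).trans (max_le (val_ev_sub_lt hx hy p').le (P.2.1 _))
    obtain ⟨m, w, s, hw, hs, he⟩ := ih _ (by omega) p' hp' rfl
    refine ⟨m + 1, w, G * s, hw, by simp [hG, hs], ?_⟩
    rw [map_mul, ← mul_assoc, key, mul_assoc, he]
    ring
  · exact ⟨0, p, 1, hp0, by simp, by simp⟩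

include hev hsimple hab hxt hgen in
theorem exists_decomp' (hx : P.1 (x - algebraMap F E a) < 1) (hy : P.1 (y - algebraMap F E b) < 1)
    (z : E) (hz : z ≠ 0) :
    ∃ (μ : ℤ) (w s : (F[X])[X]), w.evalEval a b ≠ 0 ∧ s.evalEval a b ≠ 0 ∧
      z * ev x y s = (x - algebraMap F E a) ^ μ * ev x y w := by
  obtain ⟨p, q, hq, hpq⟩ := hgen z
  have hp : ev x y p ≠ 0 := by rw [← hpq]; exact mul_ne_zero hz hq
  have hxa : x - algebraMap F E a ≠ 0 := fun e => hxt (by
    rw [sub_eq_zero.mp e]; exact isAlgebraic_algebraMap a)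
  obtain ⟨m, w, s, hw, hs, he⟩ := exists_decomp hev hsimple hab hxt hx hy p hp
  obtain ⟨m', w', s', hw', hs', he'⟩ := exists_decomp hev hsimple hab hxt hx hy q hq
  refine ⟨(m : ℤ) - m', w * s', w' * s, by simp [hw, hs'], by simp [hw', hs], ?_⟩
  rw [map_mul, map_mul, zpow_sub₀ hxa, zpow_natCast, zpow_natCast]
  field_simp
  linear_combination (ev x y s) * (ev x y s') * hpq + (ev x y s') * he - z * (ev x y s) * he'

include hev hsimple hab hxt hgen in
/-- Only one place lies over a simple point. -/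
theorem place_unique (hx : P.1 (x - algebraMap F E a) < 1) (hy : P.1 (y - algebraMap F E b) < 1)
    (hx' : Q.1 (x - algebraMap F E a) < 1) (hy' : Q.1 (y - algebraMap F E b) < 1) : P = Q := by
  refine FFLib.place_eq_of_le fun z hz => ?_
  rcases eq_or_ne z 0 with rfl | hz0
  · simp
  have hxa : x - algebraMap F E a ≠ 0 := fun e => hxt (by
    rw [sub_eq_zero.mp e]; exact isAlgebraic_algebraMap a)
  obtain ⟨μ, w, s, hw, hs, he⟩ := exists_decomp' hev hsimple hab hxt hgen hx hy z hz0
  have key : ∀ R : Place F E, R.1 (x - algebraMap F E a) < 1 → R.1 (y - algebraMap F E b) < 1 →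
      R.1 z = R.1 (x - algebraMap F E a) ^ μ := fun R h1 h2 => by
    have := congrArg R.1 he
    rwa [map_mul, map_mul, map_zpow₀, val_ev_eq_one h1 h2 hs, val_ev_eq_one h1 h2 hw, mul_one,
      mul_one] at this
  rw [key P hx hy] at hz
  rw [key Q hx' hy']
  have hμ : 0 ≤ μ := by
    by_contra hneg
    have hp0 : 0 < P.1 (x - algebraMap F E a) := zero_lt_iff.mpr (FFLib.val_ne_zero P hxa)
    exact absurd hz (not_le.mpr (one_lt_zpow_of_neg₀ hp0 hx (not_le.mp hneg)))
  obtain ⟨n, rfl⟩ := Int.eq_ofNat_of_zero_le hμ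
  rw [zpow_natCast]
  exact pow_le_one₀ zero_le hx'.le

include hev hsimple hab hxt hgen in
/-- The place over a simple rational point is rational. -/
theorem deg_eq_one (hF : FFLib.IsFF F E) (hx : P.1 (x - algebraMap F E a) < 1)
    (hy : P.1 (y - algebraMap F E b) < 1) : P.deg = 1 := by
  refine le_antisymm ?_ (FFLib.deg_pos hF P)
  have hsurj : Function.Surjective (algebraMap F (FFLib.Res P)) := by
    intro r
    obtain ⟨⟨z, hzO⟩, rfl⟩ := IsLocalRing.residue_surjective r
    rcases eq_or_ne z 0 with rfl | hz0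
    · exact ⟨0, by rw [map_zero]; exact (map_zero _).symm⟩
    have hxa : x - algebraMap F E a ≠ 0 := fun e => hxt (by
      rw [sub_eq_zero.mp e]; exact isAlgebraic_algebraMap a)
    obtain ⟨μ, w, s, hw, hs, he⟩ := exists_decomp' hev hsimple hab hxt hgen hx hy z hz0
    have hv := congrArg P.1 he
    rw [map_mul, map_mul, map_zpow₀, val_ev_eq_one hx hy hs, val_ev_eq_one hx hy hw, mul_one,
      mul_one] at hv
    have hμ : 0 ≤ μ := by
      by_contra hneg
      have hp0 : 0 < P.1 (x - algebraMap F E a) := zero_lt_iff.mpr (FFLib.val_ne_zero P hxa)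
      exact absurd ((FFLib.mem_O_iff P z).mp hzO)
        (not_le.mpr (hv ▸ one_lt_zpow_of_neg₀ hp0 hx (not_le.mp hneg)))
    obtain ⟨n, rfl⟩ := Int.eq_ofNat_of_zero_le hμ
    let q : (F[X])[X] := C ((X - C a) ^ n) * w
    let c : F := q.evalEval a b / s.evalEval a b
    have hq : ev x y q = z * ev x y s := by simp [q, he, ev_C]
    refine ⟨c, ?_⟩
    show IsLocalRing.residue P.O (algebraMap F P.O c) = _
    rw [eq_comm, ← sub_eq_zero, ← map_sub, FFLib.residue_eq_zero]
    show P.1 (z - ((algebraMap F P.O c : P.O) : E)) < 1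
    rw [FFLib.coe_algebraMap_O]
    have h0 : (q - C (C c) * s).evalEval a b = 0 := by
      simp only [c, evalEval_sub, evalEval_mul, evalEval_C, eval_C]
      rw [div_mul_cancel₀ _ hs, sub_self]
    have h1 := val_ev_sub_lt hx hy (q - C (C c) * s)
    rw [h0, map_zero, sub_zero, map_sub, map_mul (ev x y) (C (C c)) s, ev_CC, hq, ← sub_mul, map_mul,
      val_ev_eq_one hx hy hs, mul_one] at h1
    exact h1
  refine finrank_le_one (1 : FFLib.Res P) fun r => ?_
  obtain ⟨c, rfl⟩ := hsurj r
  exact ⟨c, (Algebra.algebraMap_eq_smul_one c).symm⟩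

end Place

section Global

variable {x y} {h : (F[X])[X]} (hev : ev x y h = 0) (hmon : h.Monic) (hxt : Transcendental F x)
  (hgen : ∀ z : E, ∃ p q : (F[X])[X], ev x y q ≠ 0 ∧ z * ev x y q = ev x y p)

include hev hmon hxt hgen

theorem isFF_and_finrank_le : FFLib.IsFF F E ∧ 0 < Module.finrank F⟮x⟯ E ∧
    Module.finrank F⟮x⟯ E ≤ h.natDegree ∧
    LinearIndependent F⟮x⟯ fun i : Fin (Module.finrank F⟮x⟯ E) => y ^ (i : ℕ) := by
  let φ : F[X] →+* F⟮x⟯ := (aeval (AdjoinSimple.gen F x)).toRingHom
  have hφ : ∀ p : F[X], algebraMap F⟮x⟯ E (φ p) = aeval x p := fun p => by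
    simp only [φ, AlgHom.toRingHom_eq_coe, RingHom.coe_coe]
    rw [← aeval_algebraMap_apply, AdjoinSimple.algebraMap_gen]
  have hev' : ∀ p : (F[X])[X], aeval y (p.map φ) = ev x y p := fun p => by
    rw [aeval_def, eval₂_map]
    exact congrArg (fun g => eval₂ g y p) (RingHom.ext hφ)
  have hh : aeval y (h.map φ) = 0 := by rw [hev', hev]
  have hint : IsIntegral F⟮x⟯ y := ⟨h.map φ, hmon.map φ, by rw [← aeval_def]; exact hh⟩
  have htop : F⟮x⟯⟮y⟯ = ⊤ := by
    rw [eq_top_iff]
    intro z _
    obtain ⟨p, q, hq, hpq⟩ := hgen z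
    have hmem : ∀ p, ev x y p ∈ F⟮x⟯⟮y⟯ := fun p => by
      rw [← hev']
      exact algebra_adjoin_le_adjoin F⟮x⟯ _ (Algebra.adjoin_singleton_eq_range_aeval F⟮x⟯ y ▸
        AlgHom.mem_range_self _ _)
    rw [eq_div_iff_mul_eq hq |>.mpr hpq]
    exact div_mem (hmem p) (hmem q)
  have hfin : FiniteDimensional F⟮x⟯ E := by
    have := adjoin.finiteDimensional hint
    rw [htop] at this
    exact Module.Finite.equiv IntermediateField.topEquiv.toLinearEquiv
  have hrank : Module.finrank F⟮x⟯ E = (minpoly F⟮x⟯ y).natDegree := by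
    rw [← adjoin.finrank hint, htop, IntermediateField.finrank_top']
  refine ⟨⟨x, hxt, hfin⟩, Module.finrank_pos, ?_, ?_⟩
  · rw [hrank]
    refine (natDegree_le_of_dvd (minpoly.dvd _ _ hh) (hmon.map φ).ne_zero).trans natDegree_map_le
  · exact (linearIndependent_pow y).comp (Fin.cast hrank) (Fin.cast_injective _)

end Global

section Bound

variable {x y} {h : (F[X])[X]} {D : ℕ} (hF : FFLib.IsFF F E) (hev : ev x y h = 0) (hmon : h.Monic)
  (hD : ∀ i, (h.coeff i).natDegree ≤ D)

include hF

theorem val_aeval_le (c : F[X]) (P : Place F E) :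
    P.1 (aeval x c) ≤ exp ((c.natDegree : ℤ) * FFLib.poles (k := F) x P) := by
  rw [aeval_eq_sum_range]
  refine P.1.map_sum_le fun i hi => ?_
  rw [Algebra.smul_def, map_mul, map_pow]
  refine (mul_le_of_le_one_left' (P.2.1 _)).trans ((pow_le_pow_left' (FFLib.val_le_exp_poles hF x P) i).trans ?_)
  rw [← exp_nsmul, exp_le_exp, nsmul_eq_mul]
  exact mul_le_mul_of_nonneg_right (by simpa using Finset.mem_range_succ_iff.mp hi)
    (FFLib.poles_nonneg x P)

include hev hmon hD

theorem val_y_le (P : Place F E) : P.1 y ≤ exp ((D : ℤ) * FFLib.poles (k := F) x P) := by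
  set A := FFLib.poles (k := F) x P
  by_contra hlt
  rw [not_le] at hlt
  have hA : 0 ≤ A := FFLib.poles_nonneg x P
  have h1 : 1 < P.1 y := lt_of_le_of_lt (by rw [← exp_zero, exp_le_exp]; positivity) hlt
  have hy0 : (0 : WithZero (Multiplicative ℤ)) < P.1 y := zero_lt_one.trans h1
  set d := h.natDegree
  have hsum : ev x y h = y ^ d + ∑ i ∈ Finset.range d, aeval x (h.coeff i) * y ^ i := by
    conv_lhs => rw [hmon.as_sum]
    simp [map_sum, ev_C, ev_X, d]
  rw [hev] at hsum
  have hd : 0 < d := by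
    by_contra hd
    have hd' : d = 0 := by omega
    simp [hd'] at hsum
  have hlt' : P.1 (∑ i ∈ Finset.range d, aeval x (h.coeff i) * y ^ i) < P.1 (y ^ d) := by
    refine P.1.map_sum_lt (by simp [map_pow, pow_ne_zero d hy0.ne']) fun i hi => ?_
    rw [map_mul, map_pow, map_pow]
    calc P.1 (aeval x (h.coeff i)) * P.1 y ^ i
        < P.1 y * P.1 y ^ i := by
          refine mul_lt_mul_of_pos_right (lt_of_le_of_lt ((val_aeval_le hF _ P).trans ?_) hlt) (pow_pos hy0 i)
          rw [exp_le_exp]
          exact mul_le_mul_of_nonneg_right (by exact_mod_cast hD i) hA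
      _ = P.1 y ^ (i + 1) := (pow_succ' _ _).symm
      _ ≤ P.1 y ^ d := pow_le_pow_right₀ h1.le (Finset.mem_range.mp hi)
  have := congrArg P.1 hsum
  rw [P.1.map_add_eq_of_lt_left hlt', map_zero, map_pow] at this
  exact pow_ne_zero d hy0.ne' this.symm

theorem val_ev_le (p : (F[X])[X]) {D' d' : ℕ} (hp : ∀ i, (p.coeff i).natDegree ≤ D')
    (hd' : p.natDegree ≤ d') (P : Place F E) :
    P.1 (ev x y p) ≤ exp (((D' + D * d' : ℕ) : ℤ) * FFLib.poles (k := F) x P) := by
  conv_lhs => rw [p.as_sum_range]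
  rw [map_sum]
  refine P.1.map_sum_le fun i hi => ?_
  rw [← C_mul_X_pow_eq_monomial, map_mul, map_pow, ev_C, ev_X, map_mul, map_pow]
  refine (mul_le_mul' (val_aeval_le hF _ P) (pow_le_pow_left' (val_y_le hF hev hmon hD P) i)).trans ?_
  rw [← exp_nsmul, ← exp_add, exp_le_exp, nsmul_eq_mul]
  push_cast
  have hA : (0 : ℤ) ≤ FFLib.poles (k := F) x P := FFLib.poles_nonneg x P
  have h1 : ((p.coeff i).natDegree : ℤ) ≤ D' := by exact_mod_cast hp i
  have h2 : (i : ℤ) ≤ d' := by
    have := Finset.mem_range_succ_iff.mp hi; omega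
  nlinarith [mul_le_mul_of_nonneg_right h1 hA,
    mul_le_mul_of_nonneg_left (mul_le_mul_of_nonneg_right h2 hA) (Int.natCast_nonneg D)]

end Bound

end Groth.Agent.ZH85.PtLow
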